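/-
A normal elementary abelian subgroup of order 2^8 with automizer SU(4,2) (or extended by 2) on its natural
module: the facts needed for the fusion argument.

* `Nm` : the setting, in coordinates;
* `Nm.Sec` : an element `x₀` of order three without fixed vector, and the section of its centraliser;
* `Nm.rich_of_coset`, `Nm.classes_inner`, `Nm.classes_outer` : the involutions outside `A`;
* `Nm.facts` : `Fus`.
-/
import Cfsg.Agent.Lib.U62ThreeCent.Finish.Fusion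
import Cfsg.Agent.Lib.U62Rec.OutMain

set_option autoImplicit false

namespace Cfsg.Agent.U62ThreeCent

open Cfsg.Agent.U62Rec Cfsg.Agent.ThreeTransSU Cfsg.Agent.U62Cover
open Cfsg.Agent.U62Module (Rich)

universe u

/-- A transvection is not the identity. -/
theorem t4_ne : t4 (w2 0 1 0) ≠ (1 : U4) := fun e => by
  have h := congrArg (fun g => act g (Pi.single 0 1)) e
  simp only [act_t4 (iso_w2 0 1 0 (by decide)), act_one] at h
  revert h
  unfold tvf Cfsg.hermForm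
  decide +kernel

/-- The setting. -/
structure Nm (X : Type u) [Group X] where
  /-- the elementary abelian subgroup -/
  A : Subgroup X
  /-- the inner part of its normaliser -/
  H0 : Subgroup X
  /-- its normaliser -/
  H : Subgroup X
  /-- coordinates on `A` -/
  vec : X → V4
  /-- the action -/
  θ : X → U4
  H_eq : H = Subgroup.normalizer (A : Set X)
  A_le : A ≤ H0
  H0_le : H0 ≤ H
  conj_H0 : ∀ g ∈ H, ∀ h ∈ H0, g * h * g⁻¹ ∈ H0
  out_mul : ∀ x ∈ H, x ∉ H0 → ∀ y ∈ H, y ∉ H0 → x * y ∈ H0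
  sq : ∀ a ∈ A, a * a = 1
  comm : ∀ a ∈ A, ∀ b ∈ A, Commute a b
  vec_mul : ∀ a ∈ A, ∀ b ∈ A, vec (a * b) = vec a + vec b
  vec_ker : ∀ a ∈ A, vec a = 0 → a = 1
  vec_surj : ∀ v : V4, ∃ a ∈ A, vec a = v
  θ_mul : ∀ g ∈ H0, ∀ h ∈ H0, θ (g * h) = θ g * θ h
  θ_ker : ∀ h ∈ H0, (θ h = 1 ↔ h ∈ A)
  θ_surj : ∀ x : U4, ∃ h ∈ H0, θ h = x
  vec_conj : ∀ h ∈ H0, ∀ a ∈ A, vec (h * a * h⁻¹) = act (θ h) (vec a)
  sing : ∀ h ∈ H, ∀ a ∈ A, (hf (vec (h * a * h⁻¹)) (vec (h * a * h⁻¹)) = 0 ↔ hf (vec a) (vec a) = 0)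
  anti : ∀ b ∈ H, b ∉ H0 → b * b ∈ A →
    (∀ c : K, ∀ a ∈ A, ∀ a' ∈ A, vec a' = c • vec a → vec (b * a' * b⁻¹) = c ^ 2 • vec (b * a * b⁻¹)) ∧
    ∀ a ∈ A, ∀ a' ∈ A, hf (vec (b * a * b⁻¹)) (vec (b * a' * b⁻¹)) = hf (vec a) (vec a') ^ 2

/-! ### Tables -/

/-- The support of a vector. -/
def supp (v : V4) : ℕ := (Finset.univ.filter fun i => v i ≠ 0).card

/-- Singular vectors of full support. -/
def w4 (a b c : ZMod 3) : V4 := ![1, pw a, pw b, pw c]

theorem iso_w4 : ∀ a b c, hf (w4 a b c) (w4 a b c) = 0 := by unfold hf Cfsg.hermForm; decide +kernel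

theorem supp_small : ∀ v : V4, supp v ≤ 2 → ∃ a : A3, a ≠ 0 ∧ dg a v = v := by decide +kernel

theorem supp_down : ∀ v : V4, 3 ≤ supp v → ∃ a b c : ZMod 3, supp (tvf (w4 a b c) v) < supp v := by
  unfold tvf Cfsg.hermForm; decide +kernel

theorem exists_w2_ne : ∀ v : V4, v ≠ 0 → ∃ (i j : Fin 4) (n : ZMod 3), i ≠ j ∧ hf v (w2 i j n) ≠ 0 := by
  unfold hf Cfsg.hermForm; decide +kernel

theorem w2_span : ∀ (i : Fin 4) (c : K), ∃ (j : Fin 4), j ≠ i ∧
    (c * (1 + om) ^ 2) • (w2 j i 0 + w2 j i 1) = Pi.single i c := by decide +kernel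

theorem std_fix_t : ∀ v : V4, tvf (w2 0 1 0) v = v →
    v = ![0, 0, v 2, v 3] + (![v 0, 0, 0, 0] + tvf (w2 0 1 0) ![v 0, 0, 0, 0]) := by
  unfold tvf Cfsg.hermForm; decide +kernel

theorem std_fix_s : ∀ v : V4, tvf (w2 0 1 0) (tvf (w2 2 3 0) v) = v →
    v = ![v 0, 0, v 2, 0] + tvf (w2 0 1 0) (tvf (w2 2 3 0) ![v 0, 0, v 2, 0]) := by
  unfold tvf Cfsg.hermForm; decide +kernel

theorem tail_cases : ∀ γ δ : K,
    (γ = 0 ∧ δ = 0) ∨
    (∃ a : A3, a ≠ 0 ∧ dg a ![0, 0, γ, δ] = ![0, 0, γ, δ] ∧ sw 0 1 a = a) ∨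
    ∃ a : A3, dg a ![0, 0, 1, 1] = ![0, 0, γ, δ] ∧ sw 0 1 a = a := by decide +kernel

theorem base_tbl : sw 0 1 ((2, 2, 1) : A3) = (2, 2, 1) ∧ sw 2 3 ((2, 2, 1) : A3) = (2, 2, 1) ∧
    (∀ v : V4, dg (2, 2, 1) v = v → v = 0) ∧
    tvf (w2 0 1 0) ![0, 0, 1, 1] = ![0, 0, 1, 1] ∧ tvf (w2 0 1 0) ![0, 0, 1, 0] = ![0, 0, 1, 0] ∧
    hf ![(0 : K), 0, 1, 1] ![0, 0, 1, 1] = 0 ∧ hf ![(0 : K), 0, 1, 0] ![0, 0, 1, 0] = 1 := by
  unfold tvf hf Cfsg.hermForm; decide +kernel

theorem k_fix : ∀ h h' : K, (∀ c : K, c * h + c ^ 2 * h' = 0) → h = 0 := by decide +kernel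

theorem k_sq_eq : ∀ c : K, c ^ 2 = c → c ≠ 0 → c = 1 := by decide +kernel

theorem om_split : om + om ^ 2 = 1 := by decide +kernel

theorem tor_comm (a b : A3) : tor a * tor b = tor b * tor a := by rw [← tor_add, ← tor_add, add_comm]

theorem t_tor {a : A3} (h : sw 0 1 a = a) : t4 (w2 0 1 0) * tor a = tor a * t4 (w2 0 1 0) := by
  rw [w2_tor (by decide) 0 a, h]

theorem tor_cube (a : A3) : tor a ^ 3 = 1 := by
  have h : ∀ a : A3, a + a + a = 0 := by decide +kernel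
  rw [pow_succ, pow_succ, pow_one, ← tor_add, ← tor_add, h, tor_zero]

theorem tor_ne {a : A3} (h : a ≠ 0) : tor a ≠ 1 := fun e => h (tor_inj (e.trans tor_zero.symm))

/-- Every vector is fixed by an element of order three. -/
theorem exists_three_fix (v : V4) : ∃ g : U4, g ^ 3 = 1 ∧ g ≠ 1 ∧ act g v = v := by
  generalize hn : supp v = n
  induction n using Nat.strong_induction_on generalizing v with
  | _ n ih =>
    rcases Nat.lt_or_ge (supp v) 3 with h | h
    · obtain ⟨a, ha, he⟩ := supp_small v (by omega)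
      exact ⟨tor a, tor_cube a, tor_ne ha, by rw [act_tor, he]⟩
    · obtain ⟨a, b, c, hlt⟩ := supp_down v h
      obtain ⟨g, g3, g1, gv⟩ := ih _ (hn ▸ hlt) _ rfl
      set t := t4 (w4 a b c) with ht
      have htv : act t v = tvf (w4 a b c) v := act_t4 (iso_w4 a b c) v
      refine ⟨t⁻¹ * g * t, ?_, ?_, ?_⟩
      · rw [show t⁻¹ * g * t = t⁻¹ * g * t⁻¹⁻¹ by rw [inv_inv], conj_pow, g3]; group
      · intro e
        refine g1 ?_
        have := congrArg (fun y => t * y * t⁻¹) e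
        simpa [mul_assoc] using this
      · rw [act_mul, act_mul, htv, gv, ← htv, ← act_mul, inv_mul_cancel, act_one]

namespace Nm

variable {X : Type u} [Group X] (N : Nm X)

theorem A_leH : N.A ≤ N.H := N.A_le.trans N.H0_le

theorem conj_A {h : X} (hh : h ∈ N.H) {a : X} (ha : a ∈ N.A) : h * a * h⁻¹ ∈ N.A := by
  rw [N.H_eq] at hh
  exact (Subgroup.mem_normalizer_iff.1 hh a).1 ha

theorem vec_one : N.vec 1 = 0 := by
  have h := N.vec_mul 1 N.A.one_mem 1 N.A.one_mem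
  rw [mul_one] at h
  exact left_eq_add.1 h

theorem inv_A {a : X} (ha : a ∈ N.A) : a⁻¹ = a := inv_eq_of_mul_eq_one_right (N.sq a ha)

theorem vec_inj {a b : X} (ha : a ∈ N.A) (hb : b ∈ N.A) (h : N.vec a = N.vec b) : a = b := by
  have := N.vec_ker (a * b) (N.A.mul_mem ha hb) (by rw [N.vec_mul a ha b hb, h]; exact vv _)
  rw [mul_eq_one_iff_eq_inv, N.inv_A hb] at this
  exact this

theorem θ_one : N.θ 1 = 1 := (N.θ_ker 1 (N.H0.one_mem)).2 N.A.one_mem

theorem θ_inv {h : X} (hh : h ∈ N.H0) : N.θ h⁻¹ = (N.θ h)⁻¹ :=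
  eq_inv_of_mul_eq_one_left (by rw [← N.θ_mul _ (inv_mem hh) _ hh, inv_mul_cancel, N.θ_one])

theorem θ_pow {h : X} (hh : h ∈ N.H0) : ∀ n : ℕ, N.θ (h ^ n) = N.θ h ^ n
  | 0 => by rw [pow_zero, pow_zero, N.θ_one]
  | n + 1 => by rw [pow_succ, pow_succ, N.θ_mul _ (pow_mem hh n) _ hh, θ_pow hh n]

theorem θ_conj {g h : X} (hg : g ∈ N.H0) (hh : h ∈ N.H0) :
    N.θ (g * h * g⁻¹) = N.θ g * N.θ h * (N.θ g)⁻¹ := by
  rw [N.θ_mul _ (mul_mem hg hh) _ (inv_mem hg), N.θ_mul _ hg _ hh, N.θ_inv hg]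

theorem div_mem {g h : X} (hg : g ∈ N.H0) (hh : h ∈ N.H0) (he : N.θ g = N.θ h) : g * h⁻¹ ∈ N.A :=
  (N.θ_ker _ (mul_mem hg (inv_mem hh))).1 (by rw [N.θ_mul _ hg _ (inv_mem hh), N.θ_inv hh, he, mul_inv_cancel])

theorem θ_mul_A {a h : X} (ha : a ∈ N.A) (hh : h ∈ N.H0) : N.θ (a * h) = N.θ h := by
  rw [N.θ_mul _ (N.A_le ha) _ hh, (N.θ_ker _ (N.A_le ha)).2 ha, one_mul]

/-- Three divides no order of an element of `A`. -/
theorem eq_one_of_cube {a : X} (ha : a ∈ N.A) (h : a ^ 3 = 1) : a = 1 := by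
  rwa [pow_succ, pow_two, N.sq a ha, one_mul] at h

/-- An element of order three over an element of order three. -/
theorem exists_three {g : U4} (g3 : g ^ 3 = 1) (g1 : g ≠ 1) :
    ∃ h ∈ N.H0, N.θ h = g ∧ orderOf h = 3 := by
  haveI : Fact (Nat.Prime 3) := ⟨Nat.prime_three⟩
  obtain ⟨h, hh, rfl⟩ := N.θ_surj g
  have hA : h ^ 3 ∈ N.A := (N.θ_ker _ (pow_mem hh 3)).1 (by rw [N.θ_pow hh, g3])
  have e4 : N.θ (h ^ 4) = N.θ h := by rw [N.θ_pow hh, pow_succ, g3, one_mul]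
  refine ⟨h ^ 4, pow_mem hh 4, e4, orderOf_eq_prime ?_ fun e => g1 (by rw [← e4, e, N.θ_one])⟩
  calc (h ^ 4) ^ 3 = (h ^ 3 * h ^ 3) ^ 2 := by rw [← pow_add, ← pow_mul, ← pow_mul]
    _ = 1 := by rw [N.sq _ hA, one_pow]

/-- Every vector is centralised by an element of order three. -/
theorem rich_A [Finite X] {a : X} (ha : a ∈ N.A) : Rich N.H a := by
  obtain ⟨g, g3, g1, gv⟩ := exists_three_fix (N.vec a)
  obtain ⟨h, hh, rfl, h3⟩ := N.exists_three g3 g1
  refine ⟨h, N.H0_le hh, h3, ?_⟩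
  have hm := N.conj_A (N.H0_le hh) ha
  have := N.vec_inj hm ha (by rw [N.vec_conj h hh a ha, gv])
  exact mul_inv_eq_iff_eq_mul.1 this

/-- A coset all of whose lifts are conjugate under `A`, centralised by an element of order three. -/
theorem rich_of_coset {b x : X} (hb : b ∈ N.H) (hb2 : b * b = 1) (hx : x ∈ N.H) (hx3 : x ^ 3 ∈ N.A)
    (hxA : x ∉ N.A) (hxb : x * b * x⁻¹ * b⁻¹ ∈ N.A)
    (hfix : ∀ a ∈ N.A, Commute a b → ∃ w ∈ N.A, a = w * (b * w * b⁻¹)) : Rich N.H b := by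
  haveI : Fact (Nat.Prime 3) := ⟨Nat.prime_three⟩
  set a := x * b * x⁻¹ * b⁻¹ with ha
  have hbi : b⁻¹ = b := inv_eq_of_mul_eq_one_right hb2
  have hab : a * b * (a * b) = 1 := by
    rw [show a * b = x * b * x⁻¹ by rw [ha]; group,
      show x * b * x⁻¹ * (x * b * x⁻¹) = x * (b * b) * x⁻¹ by group, hb2]
    group
  have hcomm : Commute a b := by
    have h1 : a * b * a * b = 1 := by rw [← hab]; group
    show a * b = b * a
    calc a * b = (a * b * a * b) * (b⁻¹ * a⁻¹) := by group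
      _ = b * a := by rw [h1, one_mul, hbi, N.inv_A hxb]
  obtain ⟨w, hw, hwa⟩ := hfix a hxb hcomm
  set y := w⁻¹ * x with hy
  have hyb : Commute y b := by
    have h1 : x * b * x⁻¹ = w * b * w⁻¹ := by
      rw [show x * b * x⁻¹ = a * b by rw [ha]; group, hwa, N.inv_A hw,
        show w * (b * w * b⁻¹) * b = w * b * w by group]
    show y * b = b * y
    calc y * b = w⁻¹ * (x * b * x⁻¹) * x := by rw [hy]; group
      _ = w⁻¹ * (w * b * w⁻¹) * x := by rw [h1]
      _ = b * y := by rw [hy]; group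
  have hyH : y ∈ N.H := mul_mem (inv_mem (N.A_leH hw)) hx
  have hy3 : y ^ 3 ∈ N.A := by
    have e1 : y ^ 3 = w⁻¹ * (x * w⁻¹ * x⁻¹) * (x * (x * w⁻¹ * x⁻¹) * x⁻¹) * x ^ 3 := by
      rw [hy, pow_succ, pow_succ, pow_one, pow_succ, pow_succ, pow_one]; group
    rw [e1]
    exact mul_mem (mul_mem (mul_mem (inv_mem hw) (N.conj_A hx (inv_mem hw)))
      (N.conj_A hx (N.conj_A hx (inv_mem hw)))) hx3
  refine ⟨y ^ 2, pow_mem hyH 2, orderOf_eq_prime ?_ fun e => hxA ?_, hyb.pow_left 2⟩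
  · calc (y ^ 2) ^ 3 = (y ^ 3) ^ 2 := by rw [← pow_mul, ← pow_mul]
      _ = 1 := by rw [pow_two]; exact N.sq _ hy3
  · have : y ∈ N.A := by
      rwa [pow_succ, e, one_mul] at hy3
    rw [show x = w * y by rw [hy]; group]
    exact mul_mem hw this

/-- An element of order three acting without fixed vector. -/
structure Sec where
  /-- the element -/
  x : X
  mem : x ∈ N.H0
  ord : orderOf x = 3
  θx : N.θ x = tor (2, 2, 1)

theorem exists_sec : Nonempty N.Sec := by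
  obtain ⟨h, hh, he, h3⟩ := N.exists_three (tor_cube (2, 2, 1)) (tor_ne (by decide))
  exact ⟨⟨h, hh, h3, he⟩⟩

namespace Sec

variable {N} (S : N.Sec)

theorem cube : S.x ^ 3 = 1 := S.ord ▸ pow_orderOf_eq_one S.x

theorem fix_eq_one {a : X} (ha : a ∈ N.A) (h : Commute a S.x) : a = 1 := by
  refine N.vec_ker a ha (base_tbl.2.2.1 _ ?_)
  rw [← act_tor, ← S.θx, ← N.vec_conj _ S.mem a ha, ← h.eq, mul_inv_cancel_right]

theorem lift_unique {g h : X} (hg : g ∈ N.H0) (hh : h ∈ N.H0) (he : N.θ g = N.θ h) (cg : Commute g S.x)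
    (ch : Commute h S.x) : g = h :=
  mul_inv_eq_one.1 (S.fix_eq_one (N.div_mem hg hh he) (cg.mul_left ch.inv_left))

/-- The section. -/
theorem exists_lift [Finite X] {k : U4} (hk : k * tor (2, 2, 1) = tor (2, 2, 1) * k) :
    ∃ h ∈ N.H0, N.θ h = k ∧ Commute h S.x := by
  obtain ⟨h, hh, rfl⟩ := N.θ_surj k
  have hA : h * S.x * h⁻¹ * S.x⁻¹ ∈ N.A := by
    refine N.div_mem (mul_mem (mul_mem hh S.mem) (inv_mem hh)) S.mem ?_
    rw [N.θ_conj hh S.mem, S.θx, hk, mul_inv_cancel_right]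
  let f : N.A → N.A := fun w => ⟨(w : X) * (S.x * (w : X)⁻¹ * S.x⁻¹),
    mul_mem w.2 (N.conj_A (N.H0_le S.mem) (inv_mem w.2))⟩
  have hf : Function.Injective f := by
    rintro ⟨u, hu⟩ ⟨w, hw⟩ he
    have e1 : u * (S.x * u⁻¹ * S.x⁻¹) = w * (S.x * w⁻¹ * S.x⁻¹) := congrArg Subtype.val he
    have c : Commute (w⁻¹ * u) S.x := by
      show w⁻¹ * u * S.x = S.x * (w⁻¹ * u)
      calc w⁻¹ * u * S.x = w⁻¹ * (u * (S.x * u⁻¹ * S.x⁻¹)) * S.x * u := by group
        _ = w⁻¹ * (w * (S.x * w⁻¹ * S.x⁻¹)) * S.x * u := by rw [e1]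
        _ = _ := by group
    exact Subtype.ext (inv_mul_eq_one.1 (S.fix_eq_one (mul_mem (inv_mem hw) hu) c)).symm
  obtain ⟨⟨w, hw⟩, hwe⟩ := (Finite.injective_iff_surjective.1 hf) ⟨_, hA⟩
  have e1 : w * (S.x * w⁻¹ * S.x⁻¹) = h * S.x * h⁻¹ * S.x⁻¹ := congrArg Subtype.val hwe
  refine ⟨w⁻¹ * h, mul_mem (inv_mem (N.A_le hw)) hh, N.θ_mul_A (inv_mem hw) hh, ?_⟩
  show w⁻¹ * h * S.x = S.x * (w⁻¹ * h)
  calc w⁻¹ * h * S.x = w⁻¹ * (h * S.x * h⁻¹ * S.x⁻¹) * S.x * h := by group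
    _ = w⁻¹ * (w * (S.x * w⁻¹ * S.x⁻¹)) * S.x * h := by rw [e1]
    _ = _ := by group

theorem lift_comm {g h : X} (hg : g ∈ N.H0) (hh : h ∈ N.H0) (cg : Commute g S.x) (ch : Commute h S.x)
    (he : N.θ g * N.θ h = N.θ h * N.θ g) : Commute g h :=
  S.lift_unique (mul_mem hg hh) (mul_mem hh hg) (by rw [N.θ_mul _ hg _ hh, N.θ_mul _ hh _ hg, he])
    (cg.mul_left ch) (ch.mul_left cg)

theorem lift_sq {g : X} (hg : g ∈ N.H0) (cg : Commute g S.x) (he : N.θ g * N.θ g = 1) : g * g = 1 :=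
  S.fix_eq_one ((N.θ_ker _ (mul_mem hg hg)).1 (by rw [N.θ_mul _ hg _ hg, he])) (cg.mul_left cg)

/-- The torus, lifted. -/
theorem exists_tor [Finite X] {a : A3} (ha : a ≠ 0) :
    ∃ h ∈ N.H0, N.θ h = tor a ∧ Commute h S.x ∧ orderOf h = 3 := by
  haveI : Fact (Nat.Prime 3) := ⟨Nat.prime_three⟩
  obtain ⟨h, hh, he, hc⟩ := S.exists_lift (tor_comm a (2, 2, 1))
  refine ⟨h, hh, he, hc, orderOf_eq_prime ?_ fun e => tor_ne ha (by rw [← he, e, N.θ_one])⟩
  exact S.fix_eq_one ((N.θ_ker _ (pow_mem hh 3)).1 (by rw [N.θ_pow hh, he, tor_cube])) (hc.pow_left 3)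

end Sec

/-! ### The classes of involutions -/

/-- `t₀`: the transvection lift times a singular vector orthogonal to it. -/
theorem classes_inner [Finite X] (S : N.Sec) {m a₀ : X} (hm : m ∈ N.H0) (hθm : N.θ m = t4 (w2 0 1 0))
    (hmc : Commute m S.x) (ha₀ : a₀ ∈ N.A) (hv₀ : N.vec a₀ = ![0, 0, 1, 1]) {b : X} (hb : b ∈ N.H0)
    (hbA : b ∉ N.A) (hb2 : b * b = 1) : Rich N.H b ∨ ∃ h ∈ N.H, b = h * (a₀ * m) * h⁻¹ := by
  have hk2 : N.θ b * N.θ b = 1 := by rw [← N.θ_mul _ hb _ hb, hb2, N.θ_one]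
  obtain ⟨g, hg⟩ := invol_conj hk2 (fun e => hbA ((N.θ_ker b hb).1 e))
  obtain ⟨h, hh, rfl⟩ := N.θ_surj g
  suffices key : Rich N.H (h * b * h⁻¹) ∨ ∃ k ∈ N.H, h * b * h⁻¹ = k * (a₀ * m) * k⁻¹ by
    rcases key with key | ⟨k, hk, hke⟩
    · left
      have := key.conj (inv_mem (N.H0_le hh))
      rwa [inv_inv, show h⁻¹ * (h * b * h⁻¹) * h = b by group] at this
    · refine Or.inr ⟨h⁻¹ * k, mul_mem (inv_mem (N.H0_le hh)) hk, ?_⟩
      calc b = h⁻¹ * (h * b * h⁻¹) * h := by group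
        _ = _ := by rw [hke]; group
  have hb'0 : h * b * h⁻¹ ∈ N.H0 := mul_mem (mul_mem hh hb) (inv_mem hh)
  have hb'2 : h * b * h⁻¹ * (h * b * h⁻¹) = 1 := by
    rw [show h * b * h⁻¹ * (h * b * h⁻¹) = h * (b * b) * h⁻¹ by group, hb2]; group
  have hθb : N.θ (h * b * h⁻¹) = N.θ h * N.θ b * (N.θ h)⁻¹ := N.θ_conj hh hb
  rw [← hθb] at hg
  generalize h * b * h⁻¹ = c at hb'0 hb'2 hg ⊢
  clear hθb
  rcases hg with hg | hg
  · -- the transvection
    have hm2 : m * m = 1 := S.lift_sq hm hmc (by rw [hθm]; exact tv_sq cardK (iso_w2 0 1 0 (by decide)))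
    have hmi : m⁻¹ = m := inv_eq_of_mul_eq_one_right hm2
    have haA : c * m ∈ N.A := by
      have := N.div_mem hb'0 hm (hg.trans hθm.symm)
      rwa [hmi] at this
    obtain ⟨a, ha, rfl⟩ : ∃ a ∈ N.A, c = a * m := ⟨c * m, haA, by rw [mul_assoc, hm2, mul_one]⟩
    have hmA : ∀ w ∈ N.A, N.vec (m * w * m⁻¹) = tvf (w2 0 1 0) (N.vec w) := fun w hw => by
      rw [N.vec_conj m hm w hw, hθm, act_t4 (iso_w2 0 1 0 (by decide))]
    have hfix : tvf (w2 0 1 0) (N.vec a) = N.vec a := by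
      rw [← hmA a ha]
      congr 1
      have h1 : m * a * m⁻¹ = a⁻¹ := by
        rw [hmi]
        refine eq_inv_of_mul_eq_one_right ?_
        rw [← hb'2]; group
      rw [h1, N.inv_A ha]
    obtain ⟨w, hw, hwv⟩ := N.vec_surj ![(N.vec a) 0, 0, 0, 0]
    obtain ⟨v, hv, hvv⟩ := N.vec_surj ![0, 0, (N.vec a) 2, (N.vec a) 3]
    have hav : a = v * (w * (m * w * m⁻¹)) := by
      have h1 := N.conj_A (N.H0_le hm) hw
      refine N.vec_inj ha (mul_mem hv (mul_mem hw h1)) ?_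
      rw [N.vec_mul _ hv _ (mul_mem hw h1), N.vec_mul _ hw _ h1, hmA w hw, hwv, hvv]
      exact std_fix_t _ hfix
    have hconj : a * m = w * (v * m) * w⁻¹ := by
      rw [hav, N.inv_A hw, ← mul_assoc v w, (N.comm v hv w hw).eq]
      group
    suffices key : Rich N.H (v * m) ∨ ∃ k ∈ N.H, v * m = k * (a₀ * m) * k⁻¹ by
      rw [hconj]
      rcases key with key | ⟨k, hk, hke⟩
      · exact Or.inl (key.conj (N.A_leH hw))
      · exact Or.inr ⟨w * k, mul_mem (N.A_leH hw) hk, by rw [hke]; group⟩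
    rcases tail_cases ((N.vec a) 2) ((N.vec a) 3) with ⟨e2, e3⟩ | ⟨t, ht, hfx, hsw⟩ | ⟨t, hfx, hsw⟩
    · left
      have : v = 1 := N.vec_ker v hv (by rw [hvv, e2, e3]; ext i; fin_cases i <;> rfl)
      rw [this, one_mul]
      exact ⟨S.x, N.H0_le S.mem, S.ord, hmc.symm⟩
    · left
      obtain ⟨τ, hτ, hθτ, hτc, hτ3⟩ := S.exists_tor ht
      refine ⟨τ, N.H0_le hτ, hτ3, Commute.mul_right (mul_inv_eq_iff_eq_mul.1 ?_) ?_⟩
      · exact N.vec_inj (N.conj_A (N.H0_le hτ) hv) hv (by rw [N.vec_conj _ hτ _ hv, hθτ, act_tor, hvv, hfx])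
      · exact S.lift_comm hτ hm hτc hmc (by rw [hθτ, hθm, t_tor hsw])
    · right
      obtain ⟨τ, hτ, hθτ, hτc⟩ := S.exists_lift (tor_comm t (2, 2, 1))
      refine ⟨τ, N.H0_le hτ, ?_⟩
      have h1 : τ * a₀ * τ⁻¹ = v := N.vec_inj (N.conj_A (N.H0_le hτ) ha₀) hv
        (by rw [N.vec_conj _ hτ _ ha₀, hθτ, act_tor, hv₀, hfx, hvv])
      have h2 : Commute τ m := S.lift_comm hτ hm hτc hmc (by rw [hθτ, hθm, t_tor hsw])
      calc v * m = τ * a₀ * τ⁻¹ * (m * τ * τ⁻¹) := by rw [h1]; group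
        _ = τ * a₀ * τ⁻¹ * (τ * m * τ⁻¹) := by rw [h2.eq]
        _ = _ := by group
  · -- the other class
    left
    refine N.rich_of_coset (N.H0_le hb'0) hb'2 (N.H0_le S.mem) (by rw [S.cube]; exact one_mem _) (fun h1 => ?_) ?_
      fun a ha hac => ?_
    · exact tor_ne (a := (2, 2, 1)) (by decide) (S.θx ▸ (N.θ_ker _ S.mem).2 h1)
    · refine N.div_mem (mul_mem (mul_mem S.mem hb'0) (inv_mem S.mem)) hb'0 ?_
      rw [N.θ_conj S.mem hb'0, S.θx, hg, mul_inv_eq_iff_eq_mul, s₂, mul_assoc (t4 (w2 0 1 0)),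
        w2_tor (by decide) 0 ((2, 2, 1) : A3), base_tbl.2.1, ← mul_assoc (t4 (w2 0 1 0)),
        w2_tor (by decide) 0 ((2, 2, 1) : A3), base_tbl.1, mul_assoc]
    · have hact : ∀ w ∈ N.A, N.vec (c * w * c⁻¹) = tvf (w2 0 1 0) (tvf (w2 2 3 0) (N.vec w)) := fun w hw => by
        rw [N.vec_conj c hb'0 w hw, hg, s₂, act_mul, act_t4 (iso_w2 2 3 0 (by decide)),
          act_t4 (iso_w2 0 1 0 (by decide))]
      have hfx : tvf (w2 0 1 0) (tvf (w2 2 3 0) (N.vec a)) = N.vec a := by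
        rw [← hact a ha, ← hac.eq, mul_inv_cancel_right]
      obtain ⟨w, hw, hwv⟩ := N.vec_surj ![(N.vec a) 0, 0, (N.vec a) 2, 0]
      have h1 := N.conj_A (N.H0_le hb'0) hw
      refine ⟨w, hw, N.vec_inj ha (mul_mem hw h1) ?_⟩
      rw [N.vec_mul _ hw _ h1, hact w hw, hwv]
      exact std_fix_s _ hfx

/-- Involutions outside `H0`. -/
theorem classes_outer [Finite X] {b : X} (hb : b ∈ N.H) (hb0 : b ∉ N.H0) (hb2 : b * b = 1) :
    Rich N.H b := by
  classical
  obtain ⟨hsemi, hhf⟩ := N.anti b hb hb0 (by rw [hb2]; exact one_mem _)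
  choose el hel hev using N.vec_surj
  set σ : V4 → V4 := fun u => N.vec (b * el u * b⁻¹) with hσdef
  have hσA : ∀ a ∈ N.A, σ (N.vec a) = N.vec (b * a * b⁻¹) := fun a ha => by
    rw [hσdef]; simp only; rw [N.vec_inj (hel _) ha (hev _)]
  have hbi : b⁻¹ = b := inv_eq_of_mul_eq_one_right hb2
  have hσσ : ∀ u, σ (σ u) = u := fun u => by
    conv_rhs => rw [← hev u]
    show σ (N.vec (b * el u * b⁻¹)) = _
    rw [hσA _ (N.conj_A hb (hel u))]
    congr 1
    rw [hbi, show b * (b * el u * b) * b = (b * b) * el u * (b * b) by group, hb2]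
    group
  have hadd : ∀ u v, σ (u + v) = σ u + σ v := fun u v => by
    rw [← hev u, ← hev v, ← N.vec_mul _ (hel u) _ (hel v), hσA _ (mul_mem (hel u) (hel v)),
      hσA _ (hel u), hσA _ (hel v), ← N.vec_mul _ (N.conj_A hb (hel u)) _ (N.conj_A hb (hel v))]
    congr 1
    group
  have hsc : ∀ (c : K) u, σ (c • u) = c ^ 2 • σ u := fun c u =>
    hsemi c (el u) (hel u) (el (c • u)) (hel _) (by rw [hev, hev])
  have hh : ∀ u v, hf (σ u) (σ v) = hf u v ^ 2 := fun u v => by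
    have := hhf _ (hel u) _ (hel v)
    rwa [hev, hev] at this
  -- the fixed vectors
  have hfix : ∀ (c : K) (u : V4), σ (c • u + c ^ 2 • σ u) = c • u + c ^ 2 • σ u := fun c u => by
    rw [hadd, hsc, hsc, hσσ, k_sq_sq, add_comm]
  have hf2 : ∀ u v, σ u = u → σ v = v → hf u v ^ 2 = hf u v := fun u v hu hv => by rw [← hh, hu, hv]
  have hnd : ∀ p, σ p = p → p ≠ 0 → ∃ w, σ w = w ∧ hf w p ≠ 0 := by
    intro p hp hp0
    by_contra! hall
    refine hp0 (Unitary.hermForm_nondeg (card_sq cardK) 4 p fun y => ?_)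
    have h1 : hf y p = 0 := k_fix _ (hf (σ y) p) fun c => by
      have := hall _ (hfix c y)
      rwa [hl, sl, sl] at this
    exact hs0 h1
  -- a hyperbolic pair of fixed vectors
  obtain ⟨p, f, hp, hf', hpp, hff, hpf⟩ : ∃ p f, σ p = p ∧ σ f = f ∧ hf p p = 0 ∧ hf f f = 0 ∧ hf f p = 1 := by
    have hq : ∀ u v, σ u = u → σ v = v → hf (u + v) (u + v) = hf u u + hf v v := fun u v hu hv => by
      rw [hl, hr, hr, hs u v, hf2 u v hu hv, show hf u u + hf u v + (hf u v + hf v v) =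
        hf u u + (hf u v + hf u v) + hf v v by ring, k_add_self, add_zero]
    have hy : ∀ u v, hf u u = 1 → hf v v = 1 → σ u = u → σ v = v → hf (u + v) (u + v) = 0 := fun u v e1 e2 hu hv => by
      rw [hq u v hu hv, e1, e2, k_add_self]
    -- the singular fixed vectors are not totally isotropic
    by_contra! hcon
    have htot : ∀ p f, σ p = p → σ f = f → hf p p = 0 → hf f f = 0 → hf f p = 0 := fun p f hp hf' hpp hff => by
      by_contra hne
      exact hcon p f hp hf' hpp hff (k_sq_eq _ (hf2 f p hf' hp) hne)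
    -- a fixed non-singular vector, else every two fixed vectors are orthogonal
    obtain ⟨u₁, hu₁, hn₁⟩ : ∃ u, σ u = u ∧ hf u u ≠ 0 := by
      by_contra! hall
      obtain ⟨i, hi⟩ : ∃ p, σ p = p ∧ p ≠ 0 := by
        by_contra! h0
        have h1 : ∀ u, u + σ u = 0 := fun u => h0 _ (by rw [hadd, hσσ, add_comm])
        have h2 : ∀ u, om • u + om ^ 2 • σ u = 0 := fun u => h0 _ (hfix om u)
        have h3 : ∀ u : V4, σ u = u := fun u => (veq (h1 u)).symm
        have h4 : ∀ u : V4, u = 0 := fun u => by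
          have := h2 u
          rwa [h3, ← add_smul, om_split, one_smul] at this
        have h5 := congrFun (h4 (Pi.single 0 1)) 0
        rw [Pi.single_eq_same, Pi.zero_apply] at h5
        exact one_ne_zero h5
      obtain ⟨w, hw, hne⟩ := hnd i hi.1 hi.2
      exact hne (htot i w hi.1 hw (hall _ hi.1) (hall _ hw))
    have e1 : hf u₁ u₁ = 1 := k_sq_eq _ (hf2 _ _ hu₁ hu₁) hn₁
    -- every fixed vector is singular or singular plus `u₁`
    have hcases : ∀ v, σ v = v → hf v v = 0 ∨ hf (u₁ + v) (u₁ + v) = 0 := fun v hv => by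
      by_cases h0 : hf v v = 0
      · exact Or.inl h0
      · exact Or.inr (hy _ _ e1 (k_sq_eq _ (hf2 _ _ hv hv) h0) hu₁ hv)
    have hsum : ∀ v, σ v = v → σ (u₁ + v) = u₁ + v := fun v hv => by rw [hadd, hu₁, hv]
    -- singular fixed vectors orthogonal to `u₁` are zero
    have horth : ∀ p, σ p = p → hf p p = 0 → hf u₁ p = 0 → p = 0 := by
      intro p hp hpp hup
      by_contra hp0
      obtain ⟨w, hw, hne⟩ := hnd p hp hp0
      rcases hcases w hw with h0 | h0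
      · exact hne (htot p w hp hw hpp h0)
      · have := htot p (u₁ + w) hp (hsum w hw) hpp h0
        rw [hl, hup, zero_add] at this
        exact hne this
    -- so at most two singular fixed vectors
    have hone : ∀ p p', σ p = p → σ p' = p' → hf p p = 0 → hf p' p' = 0 → p ≠ 0 → p' ≠ 0 → p = p' := by
      intro p p' hp hp' hpp hpp' h0 h0'
      have e : hf u₁ p = 1 := k_sq_eq _ (hf2 _ _ hu₁ hp) fun e => h0 (horth p hp hpp e)
      have e' : hf u₁ p' = 1 := k_sq_eq _ (hf2 _ _ hu₁ hp') fun e => h0' (horth p' hp' hpp' e)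
      exact veq (horth _ (by rw [hadd, hp, hp']) (by rw [hq p p' hp hp', hpp, hpp', add_zero])
        (by rw [hr, e, e', k_add_self]))
    -- too few fixed vectors
    have hall3 : ∀ u v w : V4, σ u = u → σ v = v → σ w = w →
        u ≠ 0 → v ≠ 0 → w ≠ 0 → u ≠ v → u ≠ w → v ≠ w → u + u₁ ≠ 0 → v + u₁ ≠ 0 → w + u₁ ≠ 0 → False := by
      intro u v w hu hv hw u0 v0 w0 huv huw hvw u1 v1 w1
      have s1 : σ (u + u₁) = u + u₁ := by rw [hadd, hu, hu₁]
      have s2 : σ (v + u₁) = v + u₁ := by rw [hadd, hv, hu₁]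
      have s3 : σ (w + u₁) = w + u₁ := by rw [hadd, hw, hu₁]
      have hc : ∀ a, σ a = a → hf a a = 0 ∨ hf (a + u₁) (a + u₁) = 0 := fun a ha => by
        rw [add_comm]; exact hcases a ha
      rcases hc u hu with a | a <;> rcases hc v hv with b | b <;> rcases hc w hw with c | c
      all_goals first
        | exact huv (hone _ _ hu hv a b u0 v0)
        | exact huw (hone _ _ hu hw a c u0 w0)
        | exact hvw (hone _ _ hv hw b c v0 w0)
        | exact huv (add_right_cancel (hone _ _ s1 s2 a b u1 v1))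
        | exact huw (add_right_cancel (hone _ _ s1 s3 a c u1 w1))
        | exact hvw (add_right_cancel (hone _ _ s2 s3 b c v1 w1))
    -- but there are sixteen
    let W : Finset V4 := Finset.univ.filter fun v => σ v = v ∧ v ≠ 0 ∧ v + u₁ ≠ 0
    have hW : 2 < W.card := by
      have hcard : (Finset.univ : Finset V4).card ≤
          (Finset.univ.filter fun v => σ v = v).card * (Finset.univ.filter fun v => σ v = v).card := by
        rw [← Finset.card_product]
        refine Finset.card_le_card_of_injOn (fun v => (v + σ v, om • v + om ^ 2 • σ v)) (fun v _ => ?_)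
          fun v _ v' _ he => ?_
        · simp only [Finset.mem_coe, Finset.mem_product, Finset.mem_filter, Finset.mem_univ, true_and]
          exact ⟨by rw [hadd, hσσ, add_comm], hfix om v⟩
        · obtain ⟨e1, e2⟩ := Prod.mk.injEq _ _ _ _ ▸ he
          have back : ∀ v : V4, (om • v + om ^ 2 • σ v) + om ^ 2 • (v + σ v) = v := fun v => by
            rw [smul_add, show om • v + om ^ 2 • σ v + (om ^ 2 • v + om ^ 2 • σ v) =
              (om • v + om ^ 2 • v) + (om ^ 2 • σ v + om ^ 2 • σ v) by abel, ← add_smul, om_split, one_smul, vv,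
              add_zero]
          rw [← back v, e1, e2, back v']
      have h256 : (Finset.univ : Finset V4).card = 256 := by rw [Finset.card_univ]; decide +kernel
      have hsub : (Finset.univ.filter fun v => σ v = v) ⊆ W ∪ {0, u₁} := fun v hv => by
        simp only [Finset.mem_filter, Finset.mem_univ, true_and] at hv
        by_cases h0 : v = 0
        · simp [h0]
        by_cases h1 : v + u₁ = 0
        · simp [veq h1]
        exact Finset.mem_union_left _ (Finset.mem_filter.2 ⟨Finset.mem_univ _, hv, h0, h1⟩)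
      have := Finset.card_le_card hsub
      have := Finset.card_union_le W {0, u₁}
      have : ({0, u₁} : Finset V4).card ≤ 2 := Finset.card_le_two
      nlinarith
    obtain ⟨u, v, w, hu, hv, hw, huv, huw, hvw⟩ := Finset.two_lt_card_iff.1 hW
    simp only [W, Finset.mem_filter, Finset.mem_univ, true_and] at hu hv hw
    exact hall3 u v w hu.1 hv.1 hw.1 hu.2.1 hv.2.1 hw.2.1 huv huw hvw hu.2.2 hv.2.2 hw.2.2
  -- an element of order three commuting with `σ`
  set g : U4 := t4 p * t4 f with hgdef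
  have hg : ∀ u, act g u = tvf p (tvf f u) := fun u => by rw [hgdef, act_mul, act_t4 hff, act_t4 hpp]
  have hcomm : ∀ u, σ (act g (σ u)) = act g u := fun u => by
    have one : ∀ q, σ q = q → ∀ u, σ (tvf q u) = tvf q (σ u) := fun q hq u => by
      show σ (u + hf u q • q) = σ u + hf (σ u) q • q
      rw [hadd, hsc, hq]
      conv_rhs => rw [← hq, hh, hq]
    rw [hg, hg, one p hp, one f hf', hσσ]
  have gp : act g p = f := by
    rw [hg]
    have h1 : tvf f p = p + f := by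
      show p + hf p f • f = _
      rw [hs1 hpf, one_smul]
    rw [h1]
    show p + f + hf (p + f) p • p = f
    rw [hl, hpp, hpf, zero_add, one_smul, add_comm p f, add_assoc, vv, add_zero]
  have gf : act g f = f + p := by
    rw [hg]
    have h1 : tvf f f = f := by show f + hf f f • f = f; rw [hff, zero_smul, add_zero]
    rw [h1]
    show f + hf f p • p = _
    rw [hpf, one_smul]
  have g3 : g ^ 3 = 1 := by
    refine act_ext fun u => ?_
    obtain ⟨a, b', u', hu, hup, huf⟩ : ∃ (a b' : K) (u' : V4), u = a • p + b' • f + u' ∧ hf u' p = 0 ∧ hf u' f = 0 :=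
      ⟨hf u f, hf u p, hf u f • p + hf u p • f + u,
        by rw [← add_assoc, vv, zero_add],
        by rw [hl, hl, sl, sl, hpp, hpf, mul_zero, zero_add, mul_one, k_add_self],
        by rw [hl, hl, sl, sl, hff, hs1 hpf, mul_zero, add_zero, mul_one, k_add_self]⟩
    have gu : act g u' = u' := by
      rw [hg]
      have h1 : tvf f u' = u' := by show u' + hf u' f • f = u'; rw [huf, zero_smul, add_zero]
      rw [h1]
      show u' + hf u' p • p = u'
      rw [hup, zero_smul, add_zero]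
    rw [pow_succ, pow_succ, pow_one, act_mul, act_mul, act_one, hu]
    simp only [act_add, act_smul, gp, gf, gu]
    rw [show f + p + f = p by rw [add_comm f p, add_assoc, vv, add_zero],
      show p + (f + p) = f by rw [add_left_comm, vv, add_zero]]
  have g1 : g ≠ 1 := fun e => by
    rw [e, act_one] at gp
    rw [gp, hff] at hpf
    exact zero_ne_one hpf
  obtain ⟨x, hx, hθx, hx3⟩ := N.exists_three g3 g1
  have hbx := N.conj_H0 b hb x hx
  refine N.rich_of_coset hb hb2 (N.H0_le hx) (by rw [← hx3, pow_orderOf_eq_one]; exact one_mem _)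
    (fun h1 => g1 (hθx ▸ (N.θ_ker _ hx).2 h1)) ?_ fun a ha hac => ?_
  · have hθ : N.θ (b * x * b⁻¹) = g := by
      refine act_ext fun u => ?_
      obtain ⟨a, ha, rfl⟩ := N.vec_surj u
      have hba := N.conj_A hb ha
      rw [← N.vec_conj _ hbx a ha, ← hcomm, hσA a ha, ← hθx, ← N.vec_conj x hx _ hba,
        hσA _ (N.conj_A (N.H0_le hx) hba)]
      congr 1
      simp only [mul_inv_rev, hbi, mul_assoc]
    have h1 := N.div_mem hx hbx (hθx.trans hθ.symm)
    rw [show x * b * x⁻¹ * b⁻¹ = x * (b * x * b⁻¹)⁻¹ by group]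
    exact h1
  · obtain ⟨w, hw, hwv⟩ := N.vec_surj (om • N.vec a)
    have hm := N.conj_A hb hw
    refine ⟨w, hw, N.vec_inj ha (mul_mem hw hm) ?_⟩
    rw [N.vec_mul _ hw _ hm, hsemi om a ha w hw hwv, hwv, ← hac.eq, mul_inv_cancel_right, ← add_smul,
      om_split, one_smul]

/-- The action on `A` is irreducible. -/
theorem irred (B : Subgroup X) (hBA : B ≤ N.A) (hB : ∀ h ∈ N.H0, ∀ b ∈ B, h * b * h⁻¹ ∈ B) :
    B = ⊥ ∨ B = N.A := by
  classical
  by_cases hbot : B = ⊥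
  · exact Or.inl hbot
  refine Or.inr (le_antisymm hBA ?_)
  obtain ⟨b, hb, hb1⟩ : ∃ b ∈ B, b ≠ 1 := (Subgroup.bot_or_exists_ne_one B).resolve_left hbot
  have hv : N.vec b ≠ 0 := fun e => hb1 (N.vec_ker b (hBA hb) e)
  obtain ⟨i, j, n, hij, hne⟩ := exists_w2_ne _ hv
  set p := w2 i j n with hpdef
  set c := hf (N.vec b) p with hc
  -- a singular vector inside
  obtain ⟨s, hs', hsv⟩ : ∃ s ∈ B, N.vec s = c • p := by
    obtain ⟨h, hh, hθ⟩ := N.θ_surj (t4 p)
    have hm := hB h hh b hb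
    refine ⟨h * b * h⁻¹ * b, mul_mem hm hb, ?_⟩
    rw [N.vec_mul _ (hBA hm) _ (hBA hb), N.vec_conj h hh b (hBA hb), hθ, act_t4 (iso_w2 i j n hij)]
    show N.vec b + c • p + N.vec b = c • p
    rw [add_comm (N.vec b), add_assoc, vv, add_zero]
  have hiso : Iso (c • p) := ⟨fun e => (smul_eq_zero.1 e).elim hne (w2_ne i j n), by
    rw [sl, sr, iso_w2 i j n hij, mul_zero, mul_zero]⟩
  -- so all of them
  have hall : ∀ q : V4, Iso q → ∀ a ∈ N.A, N.vec a = q → a ∈ B := by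
    intro q hq a ha haq
    obtain ⟨g, hg⟩ := exists_act cardK (by norm_num) hiso hq
    obtain ⟨h, hh, hθ⟩ := N.θ_surj g
    have hm := hB h hh s hs'
    rwa [← N.vec_inj ha (hBA hm) (by rw [N.vec_conj h hh s (hBA hs'), hθ, hsv, hg, haq])] at hm
  let S : AddSubmonoid V4 :=
    { carrier := {v | ∃ a ∈ B, N.vec a = v}
      zero_mem' := ⟨1, one_mem _, N.vec_one⟩
      add_mem' := fun {u v} hu hv => by
        obtain ⟨a, ha, rfl⟩ := hu
        obtain ⟨a', ha', rfl⟩ := hv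
        exact ⟨a * a', mul_mem ha ha', N.vec_mul a (hBA ha) a' (hBA ha')⟩ }
  have hsingle : ∀ (k : Fin 4) (d : K), Pi.single k d ∈ S := by
    intro k d
    obtain ⟨j, hj, he⟩ := w2_span k d
    rw [← he, smul_add]
    by_cases hd : d * (1 + om) ^ 2 = 0
    · rw [hd, zero_smul, zero_smul, add_zero]; exact S.zero_mem
    · refine S.add_mem ?_ ?_
      all_goals
        obtain ⟨a, ha, hav⟩ := N.vec_surj ((d * (1 + om) ^ 2) • w2 j k _)
        exact ⟨a, hall _ ⟨fun e => (smul_eq_zero.1 e).elim hd (w2_ne _ _ _),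
          by rw [sl, sr, iso_w2 _ _ _ hj, mul_zero, mul_zero]⟩ a ha hav, hav⟩
  intro a ha
  obtain ⟨a', ha', he⟩ : N.vec a ∈ S := by
    rw [← Finset.univ_sum_single (N.vec a)]
    exact S.sum_mem fun k _ => hsingle k _
  rwa [N.vec_inj ha (hBA ha') he.symm]

/-- The facts needed for the fusion argument. -/
theorem facts [Finite X] (hmeet : MeetA N.A N.H) : ∃ t₀, Fus N.A N.H t₀ := by
  obtain ⟨S⟩ := N.exists_sec
  obtain ⟨m, hm, hθm, hmc⟩ := S.exists_lift (k := t4 (w2 0 1 0)) (t_tor base_tbl.1)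
  obtain ⟨u, hu, huv⟩ := N.vec_surj ![0, 0, 1, 1]
  obtain ⟨v, hv, hvv⟩ := N.vec_surj ![0, 0, 1, 0]
  have hm2 : m * m = 1 := S.lift_sq hm hmc (by rw [hθm]; exact tv_sq cardK (iso_w2 0 1 0 (by decide)))
  have hcm : ∀ w ∈ N.A, tvf (w2 0 1 0) (N.vec w) = N.vec w → Commute m w := fun w hw he => by
    refine mul_inv_eq_iff_eq_mul.1 (N.vec_inj (N.conj_A (N.H0_le hm) hw) hw ?_)
    rw [N.vec_conj m hm w hw, hθm, act_t4 (iso_w2 0 1 0 (by decide)), he]
  have hmu : Commute m u := hcm u hu (by rw [huv]; exact base_tbl.2.2.2.1)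
  have hmv : Commute m v := hcm v hv (by rw [hvv]; exact base_tbl.2.2.2.2.1)
  have hum : u * m * u = m := by
    rw [mul_assoc, hmu.eq, ← mul_assoc, N.sq u hu, one_mul]
  have hne : ∀ {w : X}, w ∈ N.A → N.vec w ≠ 0 → w ≠ 1 := fun {w} hw h e => h (by rw [e]; exact N.vec_one)
  refine ⟨u * m, N.H_eq, hmeet, N.comm, N.sq, fun a ha _ => N.rich_A ha,
    mul_mem (N.A_leH hu) (N.H0_le hm), fun h => ?_, ?_, fun b hb hbA hb2 => ?_, ?_,
    fun B hBA hB => N.irred B hBA fun h hh => hB h (N.H0_le hh)⟩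
  · have h1 : m ∈ N.A := (N.A.mul_mem_cancel_left hu).1 h
    have h2 := S.fix_eq_one h1 hmc
    rw [h2, N.θ_one] at hθm
    exact t4_ne hθm.symm
  · rw [show u * m * (u * m) = u * m * u * m by group, hum, hm2]
  · by_cases hb0 : b ∈ N.H0
    · exact N.classes_inner S hm hθm hmc hu huv hb0 hbA hb2
    · exact Or.inl (N.classes_outer hb hb0 hb2)
  · refine ⟨u, v, hu, hv, (Commute.refl u).mul_right hmu.symm, (N.comm v hv u hu).mul_right hmv.symm, ?_, ?_,
      hne hu (by rw [huv]; decide +kernel), hne hv (by rw [hvv]; decide +kernel), fun h hh he => ?_⟩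
    · rw [hum]
      exact ⟨S.x, N.H0_le S.mem, S.ord, hmc.symm⟩
    · obtain ⟨τ, hτ, hθτ, hτc, hτ3⟩ := S.exists_tor (a := (2, 2, 2)) (by decide)
      refine ⟨τ, N.H0_le hτ, hτ3, ?_⟩
      rw [show u * m * v = u * v * m by rw [mul_assoc, hmv.eq, ← mul_assoc]]
      refine Commute.mul_right (mul_inv_eq_iff_eq_mul.1 ?_) (S.lift_comm hτ hm hτc hmc ?_)
      · have huv' := mul_mem hu hv
        refine N.vec_inj (N.conj_A (N.H0_le hτ) huv') huv' ?_
        rw [N.vec_conj _ hτ _ huv', hθτ, act_tor, N.vec_mul _ hu _ hv, huv, hvv]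
        decide +kernel
      · rw [hθτ, hθm, t_tor (by decide +kernel)]
    · have h1 := (N.sing h hh u hu).2 (by rw [huv]; exact base_tbl.2.2.2.2.2.1)
      rw [he, hvv, base_tbl.2.2.2.2.2.2] at h1
      exact one_ne_zero h1

end Nm

end Cfsg.Agent.U62ThreeCent
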