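/-
Elements of order three of SU(4,2) with a fixed vector.

* `exists_step`, `exists_diag` : an orthonormal basis of eigenvectors, so a conjugate in the diagonal subgroup;
* `classify` : three classes, told apart by the number of fixed vectors.
-/
import Cfsg.Agent.Lib.U62ThreeCent.Finish.Facts

set_option autoImplicit false

namespace Cfsg.Agent.U62ThreeCent

open Cfsg.Agent.U62Rec Cfsg.Agent.ThreeTransSU Cfsg.Agent.U62Cover Cfsg.Agent.Unitary
open scoped Matrix

theorem k_trace_one : ∀ h : K, h ≠ 0 → ∃ c : K, c ^ 2 * h + (c ^ 2 * h) ^ 2 = 1 := by decide +kernel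

theorem k_cube' : ∀ c : K, c ≠ 0 → c ^ 3 = 1 := by decide +kernel

theorem k_eig : ∀ a b : K, a ≠ 0 → b ≠ 0 → a * b ^ 2 = 1 → a = b := by decide +kernel

theorem k_pw : ∀ c : K, c ≠ 0 → ∃ n, pw n = c := by decide +kernel

theorem k_norm : ∀ c : K, c ≠ 0 → c * c ^ 2 = 1 := by decide +kernel

theorem k_last : ∀ a b c : ZMod 3, ∀ x : K, pw a * pw b * pw c * x = 1 → x = pw (-(a + b + c)) := by
  decide +kernel

/-- The map `x ↦ hf x y` as a homomorphism. -/
def hfL (y : V4) : V4 →+ K := AddMonoidHom.mk' (fun x => hf x y) fun a b => hl a b y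

theorem hfL_apply (x y : V4) : hfL y x = hf x y := rfl

theorem hf_sum_left {ι : Type*} (s : Finset ι) (f : ι → V4) (y : V4) :
    hf (∑ i ∈ s, f i) y = ∑ i ∈ s, hf (f i) y := by
  simp only [← hfL_apply]
  exact map_sum (hfL y) f s

/-- An orthonormal family of eigenvectors. -/
structure EFam (g : U4) (n : ℕ) where
  /-- the vectors -/
  u : Fin n → V4
  /-- the eigenvalues -/
  lam : Fin n → K
  orth : ∀ i j, hf (u i) (u j) = if i = j then 1 else 0
  eig : ∀ i, act g (u i) = lam i • u i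
  ne : ∀ i, lam i ≠ 0

/-- One more eigenvector. -/
theorem exists_step {g : U4} (g3 : g ^ 3 = 1) {n : ℕ} (hn : n < 4) (F : EFam g n) :
    ∃ (w : V4) (a : K), a ≠ 0 ∧ act g w = a • w ∧ hf w w = 1 ∧ ∀ i, hf w (F.u i) = 0 := by
  classical
  set π : V4 → V4 := fun x => x + ∑ i, hf x (F.u i) • F.u i with hπ
  have hperp : ∀ x i, hf (π x) (F.u i) = 0 := fun x i => by
    simp only [hπ, hl, hf_sum_left, sl, F.orth, mul_ite, mul_one, mul_zero, Finset.sum_ite_eq',
      Finset.mem_univ, if_true]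
    exact k_add_self _
  have hinv : ∀ w : V4, (∀ i, hf w (F.u i) = 0) → ∀ i, hf (act g w) (F.u i) = 0 := fun w hw i => by
    have h := act_hf g w (F.u i)
    rw [F.eig, sr, hw] at h
    exact (mul_eq_zero.1 h).resolve_left (pow_ne_zero _ (F.ne i))
  obtain ⟨x0, hx0⟩ : ∃ x, π x ≠ 0 := by
    by_contra! hall
    have hinj : Function.Injective fun x : V4 => fun i => hf x (F.u i) := fun x y he => by
      have hx := veq (hall x)
      have hy := veq (hall y)
      rw [hx, hy]
      exact Finset.sum_congr rfl fun i _ => by rw [show hf x (F.u i) = hf y (F.u i) from congrFun he i]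
    have h := Fintype.card_le_of_injective _ hinj
    rw [Fintype.card_fun, Fintype.card_fun, cardK, Fintype.card_fin, Fintype.card_fin] at h
    have h2 : (4 : ℕ) ^ n < 4 ^ 4 := Nat.pow_lt_pow_right (by norm_num) hn
    omega
  set P : K → V4 → V4 := fun a x => x + a ^ 2 • act g x + a • act g (act g x) with hP
  have hPeig : ∀ a : K, a ≠ 0 → ∀ x, act g (P a x) = a • P a x := fun a ha x => by
    have e : act g (act g (act g x)) = x := by
      rw [← act_mul, ← act_mul, show g * g * g = g ^ 3 from (pow_three' g).symm, g3, act_one]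
    simp only [hP, act_add, act_smul, e, smul_add, smul_smul, ← pow_succ', k_cube' a ha, one_smul,
      ← pow_two]
    abel
  have hPperp : ∀ a x, (∀ i, hf x (F.u i) = 0) → ∀ i, hf (P a x) (F.u i) = 0 := fun a x hx i => by
    simp only [hP, hl, sl, hx, hinv x hx, hinv _ (hinv x hx), mul_zero, add_zero]
  have hsum : ∀ x, P 1 x + P om x + P (om ^ 2) x = x := fun x => by
    have e1 : (1 : K) + om ^ 2 + (om ^ 2) ^ 2 = 0 := by decide +kernel
    have e2 : (1 : K) + om + om ^ 2 = 0 := by decide +kernel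
    have : P 1 x + P om x + P (om ^ 2) x =
        (x + x) + x + ((1 : K) + om ^ 2 + (om ^ 2) ^ 2) • act g x + ((1 : K) + om + om ^ 2) • act g (act g x) := by
      simp only [hP, one_pow, one_smul, add_smul]
      abel
    rw [this, e1, e2, zero_smul, zero_smul, vv, zero_add, add_zero, add_zero]
  obtain ⟨a, ha, hw0⟩ : ∃ a : K, a ≠ 0 ∧ P a (π x0) ≠ 0 := by
    by_contra! hall
    have hom : om ≠ (0 : K) := by decide +kernel
    refine hx0 ?_
    rw [← hsum (π x0), hall 1 one_ne_zero, hall om hom, hall _ (pow_ne_zero _ hom), add_zero, add_zero]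
  obtain ⟨w, hw0, hwperp, hweig⟩ : ∃ w, w ≠ 0 ∧ (∀ i, hf w (F.u i) = 0) ∧ act g w = a • w :=
    ⟨_, hw0, hPperp a _ (hperp x0), hPeig a ha (π x0)⟩
  obtain ⟨x1, hx1⟩ : ∃ x, hf w (π x) ≠ 0 := by
    by_contra! hall
    refine hw0 (Unitary.hermForm_nondeg (card_sq cardK) 4 w fun y => ?_)
    have h := hall y
    rw [hπ] at h
    simp only [hr] at h
    have h0 : hf w (∑ i, hf y (F.u i) • F.u i) = 0 := by
      refine hs0 ?_
      rw [hf_sum_left]
      exact Finset.sum_eq_zero fun i _ => by rw [sl, hs0 (hwperp i), mul_zero]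
    rw [h0, add_zero] at h
    exact h
  obtain ⟨y, hydef, hyperp, hyeig⟩ : ∃ y, y = P a (π x1) ∧ (∀ i, hf y (F.u i) = 0) ∧ act g y = a • y :=
    ⟨_, rfl, hPperp a _ (hperp x1), hPeig a ha (π x1)⟩
  have hwy : hf w y = hf w (π x1) := by
    have step : ∀ z, hf w (act g z) = a ^ 2 * hf w z := fun z => by
      have h := act_hf g w z
      rw [hweig, sl] at h
      calc hf w (act g z) = a ^ 2 * (a * hf w (act g z)) := by rw [← mul_assoc, ← pow_succ, k_cube' a ha, one_mul]
        _ = _ := by rw [h]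
    have key : ∀ a h : K, a ≠ 0 → h + (a ^ 2) ^ 2 * (a ^ 2 * h) + a ^ 2 * (a ^ 2 * (a ^ 2 * h)) = h := by
      decide +kernel
    rw [hydef, hP]
    simp only [hr, sr, step]
    exact key a _ ha
  by_cases hww : hf w w = 0
  · by_cases hyy : hf y y = 0
    · obtain ⟨c, hc⟩ := k_trace_one _ (hwy ▸ hx1)
      refine ⟨w + c • y, a, ha, ?_, ?_, fun i => ?_⟩
      · rw [act_add, act_smul, hweig, hyeig, smul_add, smul_smul, smul_smul, mul_comm]
      · rw [hl, hr, hr, sl, sl, sr, sr, hww, hyy, hs w y, mul_zero, mul_zero, zero_add, add_zero, ← hc]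
        congr 1
        rw [mul_pow, k_sq_sq]
      · rw [hl, sl, hwperp i, hyperp i, mul_zero, add_zero]
    · exact ⟨y, a, ha, hyeig, (k_cases _ (hs y y).symm).resolve_left hyy, hyperp⟩
  · exact ⟨w, a, ha, hweig, (k_cases _ (hs w w).symm).resolve_left hww, hwperp⟩

/-- A full family. -/
theorem exists_fam {g : U4} (g3 : g ^ 3 = 1) : ∀ n ≤ 4, Nonempty (EFam g n) := by
  intro n
  induction n with
  | zero => exact fun _ => ⟨⟨Fin.elim0, Fin.elim0, fun i => i.elim0, fun i => i.elim0, fun i => i.elim0⟩⟩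
  | succ n ih =>
    intro hn
    obtain ⟨F⟩ := ih (by omega)
    obtain ⟨w, a, ha, he, h1, h0⟩ := exists_step g3 (by omega) F
    refine ⟨⟨Fin.snoc F.u w, Fin.snoc F.lam a, fun i j => ?_, fun i => ?_, fun i => ?_⟩⟩
    · cases i using Fin.lastCases with
      | last =>
        cases j using Fin.lastCases with
        | last => simpa using h1
        | cast j => simpa [Fin.ext_iff, (j.isLt).ne'] using h0 j
      | cast i =>
        cases j using Fin.lastCases with
        | last => simpa [Fin.ext_iff, (i.isLt).ne] using hs0 (h0 i)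
        | cast j => simpa using F.orth i j
    · cases i using Fin.lastCases with
      | last => simpa using he
      | cast i => simpa using F.eig i
    · cases i using Fin.lastCases with
      | last => simpa using ha
      | cast i => simpa using F.ne i

/-- The matrix with the given columns. -/
def colM (u : Fin 4 → V4) : Matrix (Fin 4) (Fin 4) K := Matrix.of fun r i => u i r

theorem colM_mulVec (u : Fin 4 → V4) (x : V4) : colM u *ᵥ x = ∑ i, x i • u i := by
  funext r
  simp [colM, Matrix.mulVec, dotProduct, Finset.sum_apply, mul_comm]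

theorem colM_iso {u : Fin 4 → V4} (ho : ∀ i j, hf (u i) (u j) = if i = j then 1 else 0) (x y : V4) :
    hf (colM u *ᵥ x) (colM u *ᵥ y) = hf x y := by
  have key : ∀ z i, hf (u i) (colM u *ᵥ z) = z i ^ 2 := fun z i => by
    rw [hs (colM u *ᵥ z) (u i), colM_mulVec, hf_sum_left]
    simp [sl, ho]
  rw [colM_mulVec u x, hf_sum_left]
  simp only [sl, key]
  rfl

/-- A conjugate in the diagonal subgroup. -/
theorem exists_diag {g : U4} (g3 : g ^ 3 = 1) : ∃ a : A3, IsConj g (tor a) := by
  classical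
  obtain ⟨F⟩ := exists_fam g3 4 le_rfl
  have hd0 : (colM F.u).det ≠ 0 := fun h0 => by
    obtain ⟨v, hv, hv0⟩ := Matrix.exists_mulVec_eq_zero_iff.2 h0
    refine hv (Unitary.hermForm_nondeg (card_sq cardK) 4 v fun y => ?_)
    show hf v y = 0
    rw [← colM_iso F.orth, hv0, h0l]
  set c : Fin 4 → K := Fin.cons ((colM F.u).det)⁻¹ fun _ => 1 with hc
  have hc0 : ∀ i, c i ≠ 0 := fun i => by
    cases i using Fin.cases with
    | zero => simpa [hc] using hd0
    | succ i => simp [hc]
  set u : Fin 4 → V4 := fun i => c i • F.u i with hu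
  have ho : ∀ i j, hf (u i) (u j) = if i = j then 1 else 0 := fun i j => by
    rw [hu]
    simp only [sl, sr, F.orth]
    split_ifs with h
    · rw [h, mul_one, mul_comm, k_norm _ (hc0 j)]
    · rw [mul_zero, mul_zero]
  have hdet : (colM u).det = 1 := by
    rw [show colM u = colM F.u * Matrix.diagonal c from Matrix.ext fun r i => by
      simp [colM, hu, Matrix.mul_diagonal, mul_comm], Matrix.det_mul, Matrix.det_diagonal, Fin.prod_univ_succ]
    simp [hc, hd0]
  let k : U4 := ⟨⟨colM u, hdet⟩, fun x y => colM_iso ho x y⟩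
  have hk : ∀ i, act k (Pi.single i 1) = u i := fun i => by
    show colM u *ᵥ Pi.single i 1 = u i
    rw [Matrix.mulVec_single_one]
    rfl
  have heig : ∀ i, act (k⁻¹ * g * k) (Pi.single i 1) = F.lam i • Pi.single i 1 := fun i => by
    have e : act g (u i) = F.lam i • u i := by rw [hu, act_smul, F.eig, smul_comm]
    rw [act_mul, act_mul, hk, e, act_smul, ← hk, act_inv_act]
  have hdetD : F.lam 0 * F.lam 1 * F.lam 2 * F.lam 3 = 1 := by
    set h := k⁻¹ * g * k
    have hm : (h.1.1 : Matrix (Fin 4) (Fin 4) K) = Matrix.diagonal F.lam := by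
      refine Matrix.ext_of_mulVec_single fun i => ?_
      rw [show h.1.1 *ᵥ Pi.single i 1 = act h (Pi.single i 1) from rfl, heig i]
      funext r
      by_cases hri : r = i
      · subst hri; simp
      · simp [hri]
    have h1 := h.1.2
    rwa [hm, Matrix.det_diagonal, Fin.prod_univ_four] at h1
  obtain ⟨a0, e0⟩ := k_pw _ (F.ne 0)
  obtain ⟨a1, e1⟩ := k_pw _ (F.ne 1)
  obtain ⟨a2, e2⟩ := k_pw _ (F.ne 2)
  rw [← e0, ← e1, ← e2] at hdetD
  refine ⟨(a0, a1, a2), isConj_iff.2 ⟨k⁻¹, ?_⟩⟩
  rw [inv_inv]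
  refine ext_basis fun i => ?_
  rw [heig, act_tor]
  have e3 := k_last _ _ _ _ hdetD
  funext r
  by_cases hri : r = i
  · subst hri
    fin_cases r <;> simp [dg, e, e0, e1, e2, e3, neg_add_rev]
    all_goals ring_nf
  · simp [dg, hri]

/-- One representative with four fixed vectors; the other is its square. -/
def A1 : A3 := (0, 1, 1)

/-- The representative with sixteen fixed vectors. -/
def A2 : A3 := (0, 0, 1)

theorem sw_self : ∀ i a, sw i i a = a := by decide +kernel

theorem reach : ∀ a : A3, a ≠ 0 → (∃ i, e a i = 0) → ∃ i j k l : Fin 4,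
    sw i j (sw k l a) = A1 ∨ sw i j (sw k l a) = A1 + A1 ∨ sw i j (sw k l a) = A2 := by decide +kernel

theorem e_of_fix : ∀ a : A3, ∀ i, ∀ x : K, pw (e a i) * x = x → x ≠ 0 → e a i = 0 := by decide +kernel

theorem conj_sw (i j : Fin 4) (a : A3) : IsConj (tor a) (tor (sw i j a)) := by
  by_cases h : i = j
  · rw [h, sw_self]
  · exact isConj_iff.2 ⟨t4 (w2 i j 0), by rw [w2_tor h, mul_inv_cancel_right]⟩

/-- The three classes. -/
theorem classify {g : U4} (g3 : g ^ 3 = 1) (g1 : g ≠ 1) {v : V4} (hv : v ≠ 0) (gv : act g v = v) :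
    IsConj g (tor A1) ∨ IsConj g (tor (A1 + A1)) ∨ IsConj g (tor A2) := by
  obtain ⟨a, ha⟩ := exists_diag g3
  obtain ⟨k, hk⟩ := isConj_iff.1 ha
  have ha0 : a ≠ 0 := fun e0 => g1 (by
    rw [e0, tor_zero, conj_eq_one_iff] at hk
    exact hk)
  have hw : dg a (act k v) = act k v := by
    rw [← act_tor, ← hk, act_mul, act_mul, act_inv_act, gv]
  obtain ⟨i, hi⟩ : ∃ i, act k v i ≠ 0 := Function.ne_iff.1 fun e0 =>
    hv ((act_eq_iff k).1 (e0.trans (act_zero k).symm))
  obtain ⟨p, q, r, s, h⟩ := reach a ha0 ⟨i, e_of_fix a i _ (congrFun hw i) hi⟩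
  have hc : IsConj g (tor (sw p q (sw r s a))) := (ha.trans (conj_sw r s a)).trans (conj_sw p q _)
  rcases h with h | h | h <;> rw [h] at hc
  exacts [Or.inl hc, Or.inr (Or.inl hc), Or.inr (Or.inr hc)]

/-- The fixed vectors. -/
def fixS (g : U4) : Finset V4 := Finset.univ.filter fun v => act g v = v

theorem card_fixS_conj {g h : U4} (hc : IsConj g h) : (fixS g).card = (fixS h).card := by
  obtain ⟨k, rfl⟩ := isConj_iff.1 hc
  refine Finset.card_bij (fun v _ => act k v) (fun v hv => ?_) (fun a _ b _ e => (act_eq_iff k).1 e) fun w hw => ?_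
  · simp only [fixS, Finset.mem_filter, Finset.mem_univ, true_and] at hv ⊢
    rw [act_mul, act_mul, act_inv_act, hv]
  · simp only [fixS, Finset.mem_filter, Finset.mem_univ, true_and] at hw ⊢
    refine ⟨act k⁻¹ w, ?_, act_act_inv k w⟩
    rw [act_mul, act_mul] at hw
    calc act g (act k⁻¹ w) = act k⁻¹ (act k (act g (act k⁻¹ w))) := (act_inv_act k _).symm
      _ = _ := by rw [hw]

theorem fix_count : (Finset.univ.filter fun v : V4 => dg A1 v = v).card = 4 ∧
    (Finset.univ.filter fun v : V4 => dg (A1 + A1) v = v).card = 4 ∧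
    (Finset.univ.filter fun v : V4 => dg A2 v = v).card = 16 := by decide +kernel

theorem card_fixS_tor : (fixS (tor A1)).card = 4 ∧ (fixS (tor (A1 + A1))).card = 4 ∧ (fixS (tor A2)).card = 16 := by
  simp only [fixS, act_tor]
  exact fix_count

/-- With witnesses for the two kinds, all elements of order three with a fixed vector are covered. -/
theorem classes_of {p q : U4} (p3 : p ^ 3 = 1) (p1 : p ≠ 1) {v : V4} (hv : v ≠ 0) (pv : act p v = v)
    (hp : (fixS p).card < 16) (q3 : q ^ 3 = 1) (q1 : q ≠ 1) (hq : 4 < (fixS q).card)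
    {g : U4} (g3 : g ^ 3 = 1) (g1 : g ≠ 1) {u : V4} (hu : u ≠ 0) (gu : act g u = u) :
    IsConj g p ∨ IsConj g p⁻¹ ∨ IsConj g q := by
  obtain ⟨c1, c2, c3⟩ := card_fixS_tor
  have hsq : tor (A1 + A1) = (tor A1)⁻¹ := eq_inv_of_mul_eq_one_left (by
    rw [← tor_add, show A1 + A1 + A1 = 0 by decide, tor_zero])
  have hpinv : IsConj p (tor A1) → IsConj p⁻¹ (tor (A1 + A1)) := fun h => by
    obtain ⟨k, hk⟩ := isConj_iff.1 h
    exact isConj_iff.2 ⟨k, by rw [hsq, ← hk]; group⟩
  have hpinv' : IsConj p (tor (A1 + A1)) → IsConj p⁻¹ (tor A1) := fun h => by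
    obtain ⟨k, hk⟩ := isConj_iff.1 h
    exact isConj_iff.2 ⟨k, by rw [← inv_inv (tor A1), ← hsq, ← hk]; group⟩
  obtain ⟨w, hw, hw0⟩ := Finset.exists_mem_ne (lt_trans (by norm_num) hq : 1 < (fixS q).card) 0
  simp only [fixS, Finset.mem_filter, Finset.mem_univ, true_and] at hw
  have hqA : IsConj q (tor A2) := by
    rcases classify q3 q1 hw0 hw with h | h | h
    · rw [card_fixS_conj h, c1] at hq; omega
    · rw [card_fixS_conj h, c2] at hq; omega
    · exact h
  rcases classify p3 p1 hv pv with h | h | h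
  · rcases classify g3 g1 hu gu with hg | hg | hg
    exacts [Or.inl (hg.trans h.symm), Or.inr (Or.inl (hg.trans (hpinv h).symm)), Or.inr (Or.inr (hg.trans hqA.symm))]
  · rcases classify g3 g1 hu gu with hg | hg | hg
    exacts [Or.inr (Or.inl (hg.trans (hpinv' h).symm)), Or.inl (hg.trans h.symm), Or.inr (Or.inr (hg.trans hqA.symm))]
  · rw [card_fixS_conj h, c3] at hp; omega

end Cfsg.Agent.U62ThreeCent
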