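/-
The normaliser of `A` is the whole group.

* `Nm.oddCore_eq_bot`, `Nm.top` : strong closure, Goldschmidt and the solvability of strongly embedded subgroups.
-/
import Cfsg.Agent.Lib.U62ThreeCent.Finish.Facts
import Cfsg.Agent.S1169
import Cfsg.Agent.Lib.Bender.RankOneHalf
import Cfsg.Agent.Lib.Bender.Consumers
import Cfsg.Agent.Lib.Cores.Subnormal
import Cfsg.Agent.Lib.PGroup.Basic
import Cfsg.Agent.Lib.StrongEmb.Basic

set_option autoImplicit false

namespace Cfsg.Agent.U62ThreeCent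

open Cfsg.Agent.U62Rec Cfsg.Agent.ThreeTransSU Cfsg.Agent.U62Cover
open Cfsg.Agent.U62Module (orderOf_conj')

universe u

theorem torus_line : ∀ v : V4,
    dg (1, 0, 0) v = (om ^ 2) • v → dg (0, 1, 0) v = v → v = 0 := by decide +kernel

theorem zero_first : ∀ a : A3, a.1 = 0 → dg a ![1, 0, 0, 0] = ![1, 0, 0, 0] := by decide +kernel

theorem torus_indep : ∀ c : A3, ((0, 1, 0) : A3) = 0 ∨ ((0, 1, 0) : A3) = c ∨ ((0, 1, 0) : A3) = c + c →
    ((0, 0, 1) : A3) = 0 ∨ ((0, 0, 1) : A3) = c ∨ ((0, 0, 1) : A3) = c + c → False := by decide +kernel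

theorem torus_ne : ((0, 1, 0) : A3) ≠ 0 ∧ ((0, 0, 1) : A3) ≠ 0 := by decide +kernel

/-- SU(4,2) is not soluble. -/
theorem not_solvable_U4 : ¬ Group.IsSolvable U4 := fun h => by
  haveI := simple_U4
  haveI := h
  have hc : ∀ a b : U4, a * b = b * a := IsSimpleGroup.comm_iff_isSolvable.2 h
  have hz : Subgroup.center U4 = ⊤ := Subgroup.eq_top_iff' _ |>.2 fun a => Subgroup.mem_center_iff.2 fun b => hc b a
  exact absurd (center_U4.symm.trans hz) bot_ne_top

namespace Nm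

variable {X : Type u} [Group X] [Finite X] (N : Nm X)

/-- The trace of a Sylow subgroup on a normal subgroup. -/
noncomputable def traceSylow (M : Subgroup X) (hM : M.Normal) [Fact (Nat.Prime 2)] (T : Sylow 2 X) : Sylow 2 ↥M :=
  (Cores.sylow_inf_isSubnormal T (Subgroup.Normal.isSubnormal hM)).choose

omit [Finite X] in
theorem mem_trace [Finite X] (M : Subgroup X) (hM : M.Normal) [Fact (Nat.Prime 2)] (T : Sylow 2 X) {x : ↥M} :
    x ∈ (traceSylow M hM T : Subgroup ↥M) ↔ (x : X) ∈ (T : Subgroup X) := by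
  rw [traceSylow, (Cores.sylow_inf_isSubnormal T (Subgroup.Normal.isSubnormal hM)).choose_spec]; rfl

theorem A_ne : N.A ≠ ⊥ := fun h => by
  obtain ⟨a, ha, hv⟩ := N.vec_surj ![1, 0, 0, 0]
  rw [h, Subgroup.mem_bot] at ha
  rw [ha, N.vec_one] at hv
  exact zero_ne_one (congrFun hv 0)

/-- An element of the normaliser centralising `A` lies in `A`, for elements of `H0`. -/
theorem cent_A {h : X} (hh : h ∈ N.H0) (hc : ∀ a ∈ N.A, Commute h a) : h ∈ N.A := by
  refine (N.θ_ker h hh).1 (act_ext fun v => ?_)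
  obtain ⟨a, ha, rfl⟩ := N.vec_surj v
  rw [act_one, ← N.vec_conj h hh a ha, (hc a ha).eq, mul_inv_cancel_right]

/-- Outer elements move a torus element. -/
theorem outer_moves {s : X} (hs : s ∈ N.H) (hs0 : s ∉ N.H0) (hs2 : s * s ∈ N.A) :
    ∃ h ∈ N.H0, s * h * s⁻¹ * h⁻¹ ∉ N.A := by
  by_contra! hcon
  obtain ⟨hsemi, -⟩ := N.anti s hs hs0 hs2
  obtain ⟨a, ha, hav⟩ := N.vec_surj ![1, 0, 0, 0]
  have hsa := N.conj_A hs ha
  have key : ∀ h ∈ N.H0, act (N.θ h) (N.vec (s * a * s⁻¹)) = N.vec (s * (h * a * h⁻¹) * s⁻¹) := by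
    intro h hh
    have hsh := N.conj_H0 s hs h hh
    have he : N.θ (s * h * s⁻¹) = N.θ h := by
      have := N.θ_mul_A (hcon h hh) hh
      rwa [inv_mul_cancel_right] at this
    rw [← he, ← N.vec_conj _ hsh _ hsa]
    congr 1
    group
  obtain ⟨h₁, hh₁, e₁⟩ := N.θ_surj (tor (1, 0, 0))
  obtain ⟨h₂, hh₂, e₂⟩ := N.θ_surj (tor (0, 1, 0))
  have t₁ : N.vec (h₁ * a * h₁⁻¹) = om • N.vec a := by
    rw [N.vec_conj _ hh₁ a ha, e₁, act_tor, hav]; decide +kernel
  have t₂ : N.vec (h₂ * a * h₂⁻¹) = N.vec a := by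
    rw [N.vec_conj _ hh₂ a ha, e₂, act_tor, hav]; decide +kernel
  have r₁ := key h₁ hh₁
  have r₂ := key h₂ hh₂
  rw [e₁, act_tor, hsemi om a ha _ (N.conj_A (N.H0_le hh₁) ha) t₁] at r₁
  rw [e₂, act_tor, N.vec_inj (N.conj_A (N.H0_le hh₂) ha) ha t₂] at r₂
  have hz := torus_line _ r₁ r₂
  have h1 := N.vec_ker _ hsa hz
  rw [conj_eq_one_iff] at h1
  rw [h1, N.vec_one] at hav
  exact zero_ne_one (congrFun hav 0)

/-- An element of the normaliser centralising `A` lies in `A`. -/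
theorem centralizer_A {s : X} (hs : s ∈ N.H) (hc : ∀ a ∈ N.A, Commute s a) : s ∈ N.A := by
  by_cases hs0 : s ∈ N.H0
  · exact N.cent_A hs0 hc
  exfalso
  have hss : s * s ∈ N.A := N.cent_A (N.out_mul s hs hs0 s hs hs0) fun a ha => (hc a ha).mul_left (hc a ha)
  obtain ⟨h, hh, hnot⟩ := N.outer_moves hs hs0 hss
  apply hnot
  refine N.cent_A (mul_mem (N.conj_H0 s hs h hh) (inv_mem hh)) fun a ha => ?_
  have h1 := N.conj_A (N.H0_le (inv_mem hh)) ha
  rw [inv_inv] at h1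
  have h2 : s⁻¹ * (h⁻¹ * a * h) * s = h⁻¹ * a * h := by
    rw [mul_assoc s⁻¹, ← (hc _ h1).eq, inv_mul_cancel_left]
  have h3 : s * a * s⁻¹ = a := by rw [(hc a ha).eq, mul_inv_cancel_right]
  show s * h * s⁻¹ * h⁻¹ * a = a * (s * h * s⁻¹ * h⁻¹)
  calc s * h * s⁻¹ * h⁻¹ * a = s * h * (s⁻¹ * (h⁻¹ * a * h) * s) * s⁻¹ * h⁻¹ := by group
    _ = s * h * (h⁻¹ * a * h) * s⁻¹ * h⁻¹ := by rw [h2]
    _ = (s * a * s⁻¹) * (s * h * s⁻¹ * h⁻¹) := by group
    _ = _ := by rw [h3]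

/-- Elements of order three with a fixed vector: a torus of order nine. -/
theorem exists_fixing_torus : ∃ T : Subgroup X, T ≤ N.H0 ∧ IsMulCommutative T ∧ IsPGroup 3 T ∧ ¬ IsCyclic T ∧
    ∀ x ∈ T, x ≠ 1 → orderOf x = 3 ∧ ∃ a ∈ N.A, a ≠ 1 ∧ Commute x a := by
  haveI : Fact (Nat.Prime 3) := ⟨Nat.prime_three⟩
  obtain ⟨S⟩ := N.exists_sec
  let T : Subgroup X :=
    { carrier := {h | h ∈ N.H0 ∧ Commute h S.x ∧ ∃ c : A3, c.1 = 0 ∧ N.θ h = tor c}
      one_mem' := ⟨one_mem _, Commute.one_left _, 0, rfl, by rw [N.θ_one, tor_zero]⟩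
      mul_mem' := fun {g h} hg hh => by
        obtain ⟨g0, gc, c, c0, gt⟩ := hg
        obtain ⟨h0, hc, d, d0, ht⟩ := hh
        exact ⟨mul_mem g0 h0, gc.mul_left hc, c + d, by simp [c0, d0],
          by rw [N.θ_mul _ g0 _ h0, gt, ht, tor_add]⟩
      inv_mem' := fun {g} hg => by
        obtain ⟨g0, gc, c, c0, gt⟩ := hg
        exact ⟨inv_mem g0, gc.inv_left, -c, by simp [c0], by
          rw [N.θ_inv g0, gt]
          exact inv_eq_of_mul_eq_one_right (by rw [← tor_add, add_neg_cancel, tor_zero])⟩ }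
  have h3 : ∀ x ∈ T, x ^ 3 = 1 := by
    rintro x ⟨x0, xc, c, -, xt⟩
    exact S.fix_eq_one ((N.θ_ker _ (pow_mem x0 3)).1 (by rw [N.θ_pow x0, xt, tor_cube])) (xc.pow_left 3)
  refine ⟨T, fun x hx => hx.1, ⟨⟨?_⟩⟩, fun x => ⟨1, Subtype.ext (by simpa using h3 x x.2)⟩, ?_, ?_⟩
  · rintro ⟨g, g0, gc, c, -, gt⟩ ⟨h, h0, hc, d, -, ht⟩
    exact Subtype.ext (S.lift_comm g0 h0 gc hc (by rw [gt, ht, tor_comm])).eq
  · intro hcyc
    obtain ⟨p, hp, hpt, hpc, -⟩ := S.exists_tor (a := ((0, 1, 0) : A3)) torus_ne.1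
    obtain ⟨q, hq, hqt, hqc, -⟩ := S.exists_tor (a := ((0, 0, 1) : A3)) torus_ne.2
    obtain ⟨g, hg⟩ := IsCyclic.exists_generator (α := T)
    obtain ⟨i, hi⟩ := Subgroup.mem_zpowers_iff.1 (hg ⟨p, hp, hpc, _, rfl, hpt⟩)
    obtain ⟨j, hj⟩ := Subgroup.mem_zpowers_iff.1 (hg ⟨q, hq, hqc, _, rfl, hqt⟩)
    have hg3 : g ^ (3 : ℤ) = 1 := Subtype.ext (by simpa using h3 _ g.2)
    have hsmall : ∀ k : ℤ, g ^ k = 1 ∨ g ^ k = g ∨ g ^ k = g * g := fun k => by
      rw [show k = 3 * (k / 3) + k % 3 from (Int.mul_ediv_add_emod k 3).symm, zpow_add, zpow_mul, hg3, one_zpow,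
        one_mul]
      have h0 : 0 ≤ k % 3 := Int.emod_nonneg _ (by norm_num)
      have h1 : k % 3 < 3 := Int.emod_lt_of_pos _ (by norm_num)
      interval_cases (k % 3)
      · exact Or.inl (zpow_zero _)
      · exact Or.inr (Or.inl (zpow_one _))
      · exact Or.inr (Or.inr (by rw [zpow_two]))
    obtain ⟨g0, -, c, -, gt⟩ := g.2
    have key : ∀ (r : X) (a : A3) (k : ℤ), N.θ r = tor a → ((g ^ k : T) : X) = r → a = 0 ∨ a = c ∨ a = c + c := by
      intro r a k hr he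
      rcases hsmall k with e | e | e <;> rw [e] at he
      · exact Or.inl (tor_inj (by rw [← hr, ← he, Subgroup.coe_one, N.θ_one, tor_zero]))
      · exact Or.inr (Or.inl (tor_inj (by rw [← hr, ← he, gt])))
      · exact Or.inr (Or.inr (tor_inj (by rw [← hr, ← he, Subgroup.coe_mul, N.θ_mul _ g0 _ g0, gt, tor_add])))
    exact torus_indep c (key p _ i hpt (congrArg Subtype.val hi)) (key q _ j hqt (congrArg Subtype.val hj))
  · rintro x ⟨x0, xc, c, c0, xt⟩ hx1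
    refine ⟨orderOf_eq_prime (h3 x ⟨x0, xc, c, c0, xt⟩) hx1, ?_⟩
    obtain ⟨a, ha, hav⟩ := N.vec_surj ![1, 0, 0, 0]
    refine ⟨a, ha, fun e => ?_, mul_inv_eq_iff_eq_mul.1 ?_⟩
    · rw [e, N.vec_one] at hav
      exact zero_ne_one (congrFun hav 0)
    · exact N.vec_inj (N.conj_A (N.H0_le x0) ha) ha
        (by rw [N.vec_conj x x0 a ha, xt, act_tor, hav, zero_first c c0])

/-- The odd core is trivial. -/
theorem oddCore_eq_bot (hmeet : MeetA N.A N.H) : Cfsg.pPrimeCore 2 X = ⊥ := by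
  haveI : Fact (Nat.Prime 3) := ⟨Nat.prime_three⟩
  haveI : Fact (Nat.Prime 2) := ⟨Nat.prime_two⟩
  set O := Cfsg.pPrimeCore 2 X
  haveI hOn : O.Normal := Cores.pPrimeCore_normal 2 X
  have hodd : ∀ o ∈ O, o * o = 1 → o = 1 := fun o ho h2 => by
    have h1 : orderOf o ∣ 2 := orderOf_dvd_of_pow_eq_one (by rw [pow_two]; exact h2)
    exact orderOf_eq_one_iff.1
      (((Cores.coprime_card_pPrimeCore 2).of_dvd_left (Subgroup.orderOf_dvd_natCard O ho)).eq_one_of_dvd h1)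
  have hHO : ∀ o ∈ O, o ∈ N.H → o = 1 := by
    intro o ho hoH
    have hcen : ∀ a ∈ N.A, Commute o a := fun a ha => by
      have h1 : o * a * o⁻¹ * a⁻¹ ∈ N.A := mul_mem (N.conj_A hoH ha) (inv_mem ha)
      have h2 : o * a * o⁻¹ * a⁻¹ ∈ O := by
        rw [show o * a * o⁻¹ * a⁻¹ = o * (a * o⁻¹ * a⁻¹) by group]
        exact mul_mem ho (hOn.conj_mem _ (inv_mem ho) a)
      exact mul_inv_eq_iff_eq_mul.1 (mul_inv_eq_one.1 (hodd _ h2 (N.sq _ h1)))
    exact hodd o ho (N.sq o (N.centralizer_A hoH hcen))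
  obtain ⟨T, hT0, hTc, hT3, hTn, hTfix⟩ := N.exists_fixing_torus
  have hCH : ∀ x ∈ T, x ≠ 1 → ∀ g, Commute g x → g ∈ N.H := fun x hx hx1 g hg =>
    hmeet.cent_le (N.H0_le (hT0 hx)) (hTfix x hx hx1).1 (hTfix x hx hx1).2 hg
  obtain ⟨τ, hτ, hτ1⟩ : ∃ τ ∈ T, τ ≠ 1 := (Subgroup.bot_or_exists_ne_one T).resolve_left fun h => by
    exact hTn (h ▸ Bot.isCyclic)
  have hO3 : ¬ 3 ∣ Nat.card O := by
    intro hd
    obtain ⟨S, hS⟩ := hT3.exists_le_sylow
    haveI : (O.subgroupOf (S : Subgroup X)).Normal := Subgroup.Normal.subgroupOf hOn _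
    haveI : Nontrivial ↥(O.subgroupOf (S : Subgroup X)) := by
      obtain ⟨o, ho⟩ := exists_prime_orderOf_dvd_card' (G := O) 3 hd
      have hp : IsPGroup 3 (Subgroup.zpowers (o : X)) :=
        IsPGroup.of_card (n := 1) (by rw [Nat.card_zpowers, Subgroup.orderOf_coe, ho, pow_one])
      obtain ⟨S', hS'⟩ := hp.exists_le_sylow
      obtain ⟨g, hg⟩ := MulAction.exists_smul_eq X S' S
      have hm : g * o * g⁻¹ ∈ (S : Subgroup X) := by
        rw [← hg]; exact ⟨o, hS' (Subgroup.mem_zpowers _), rfl⟩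
      refine ⟨⟨⟨⟨g * o * g⁻¹, hm⟩, hOn.conj_mem _ o.2 g⟩, 1, fun e => ?_⟩⟩
      have e' : g * (o : X) * g⁻¹ = 1 := congrArg (fun z : ↥(O.subgroupOf (S : Subgroup X)) => ((z : S) : X)) e
      rw [conj_eq_one_iff] at e'
      rw [← Subgroup.orderOf_coe, e', orderOf_one] at ho
      norm_num at ho
    have hne := PGroup.inf_center_ne_bot S.isPGroup' (N := O.subgroupOf (S : Subgroup X)) ((Subgroup.nontrivial_iff_ne_bot _).1 inferInstance)
    obtain ⟨c, ⟨hcO, hcZ⟩, hc1⟩ := (Subgroup.bot_or_exists_ne_one _).resolve_left hne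
    refine hc1 (Subtype.ext (hHO c hcO (hCH τ hτ hτ1 c ?_)))
    exact (congrArg Subtype.val (Subgroup.mem_center_iff.1 hcZ ⟨τ, hS hτ⟩)).symm
  have hle : O ≤ N.H := by
    haveI := hTc
    refine Coprime.le_of_noncyclic hTn ?_ ?_ fun x hx hx1 y hy =>
      hCH x hx hx1 y (Subgroup.mem_centralizer_singleton_iff.1 hy.2)
    · exact fun x _ => Subgroup.normalizer_eq_top O ▸ Subgroup.mem_top x
    · obtain ⟨n, hn⟩ := IsPGroup.iff_card.1 hT3
      rw [hn]
      exact Nat.Coprime.pow_left n ((Nat.prime_three.coprime_iff_not_dvd).2 hO3)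
  exact (Subgroup.eq_bot_iff_forall _).2 fun o ho => hHO o ho (hle ho)

/-- The normaliser of `A` is everything. -/
theorem top (hmeet : MeetA N.A N.H) : N.H = ⊤ := by
  classical
  haveI : Fact (Nat.Prime 2) := ⟨Nat.prime_two⟩
  by_contra hne
  have hO := N.oddCore_eq_bot hmeet
  obtain ⟨t₀, Φ⟩ := N.facts hmeet
  obtain ⟨S, hSH, hAS⟩ := Φ.exists_sylow
  have hclosed : ∀ a ∈ N.A, ∀ g : X, g * a * g⁻¹ ∈ (S : Subgroup X) → g * a * g⁻¹ ∈ N.A :=
    fun a ha g hg => Φ.closed ha (hSH hg)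
  have hAnot : ¬ N.A.Normal := fun h => hne (by rw [N.H_eq]; exact Subgroup.normalizer_eq_top N.A)
  haveI : Nontrivial X := by
    by_contra h
    rw [not_nontrivial_iff_subsingleton] at h
    exact hne (Subsingleton.elim _ _)
  obtain ⟨M, hMn, hM1, hmin⟩ := Cores.exists_minimal_normal (G := X)
  -- two-elements of `M` reach `S ∩ M`
  have toS : ∀ L : Subgroup X, 2 ∣ Nat.card L → ∃ l ∈ L, ∃ g : X, l ≠ 1 ∧ g * l * g⁻¹ ∈ (S : Subgroup X) := by
    intro L hd
    obtain ⟨l, hl⟩ := exists_prime_orderOf_dvd_card' (G := L) 2 hd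
    have hp : IsPGroup 2 (Subgroup.zpowers (l : X)) :=
      IsPGroup.of_card (n := 1) (by rw [Nat.card_zpowers, Subgroup.orderOf_coe, hl, pow_one])
    obtain ⟨S', hS'⟩ := hp.exists_le_sylow
    obtain ⟨g, hg⟩ := MulAction.exists_smul_eq X S' S
    refine ⟨l, l.2, g, fun e => ?_, by rw [← hg]; exact ⟨l, hS' (Subgroup.mem_zpowers _), rfl⟩⟩
    rw [← Subgroup.orderOf_coe, e, orderOf_one] at hl
    norm_num at hl
  have hAM : N.A ≤ M := by
    rcases N.irred (M ⊓ N.A) inf_le_right (fun h hh b hb =>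
      ⟨hMn.conj_mem b hb.1 h, N.conj_A (N.H0_le hh) hb.2⟩) with e | e
    · exfalso
      refine hM1 (eq_bot_iff.2 ?_)
      rw [← hO]
      refine Cores.le_pPrimeCore hMn (Nat.coprime_comm.1 (Nat.prime_two.coprime_iff_not_dvd.2 fun hd => ?_))
      obtain ⟨l, hl, g, hl1, hg⟩ := toS M hd
      have hlM := hMn.conj_mem l hl g
      have hcen : ∀ a ∈ N.A, Commute (g * l * g⁻¹) a := fun a ha => by
        have h1 : g * l * g⁻¹ * a * (g * l * g⁻¹)⁻¹ * a⁻¹ ∈ M ⊓ N.A := by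
          refine ⟨?_, N.A.mul_mem (N.conj_A (hSH hg) ha) (N.A.inv_mem ha)⟩
          rw [show g * l * g⁻¹ * a * (g * l * g⁻¹)⁻¹ * a⁻¹ = g * l * g⁻¹ * (a * (g * l * g⁻¹)⁻¹ * a⁻¹) by group]
          exact M.mul_mem hlM (hMn.conj_mem _ (M.inv_mem hlM) a)
        rw [e, Subgroup.mem_bot, mul_inv_eq_one] at h1
        exact mul_inv_eq_iff_eq_mul.1 h1
      have hm : g * l * g⁻¹ ∈ M ⊓ N.A := ⟨hlM, N.centralizer_A (hSH hg) hcen⟩
      rw [e, Subgroup.mem_bot, conj_eq_one_iff] at hm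
      exact hl1 hm
    · exact e ▸ inf_le_left
  -- `H0` lies in `M`
  have hH0M : N.H0 ≤ M := by
    let K0 : Subgroup U4 :=
      { carrier := {k | ∃ h ∈ N.H0, h ∈ M ∧ N.θ h = k}
        one_mem' := ⟨1, one_mem _, one_mem _, N.θ_one⟩
        mul_mem' := fun {a b} ha hb => by
          obtain ⟨g, g0, gM, rfl⟩ := ha
          obtain ⟨h, h0, hM, rfl⟩ := hb
          exact ⟨g * h, mul_mem g0 h0, mul_mem gM hM, N.θ_mul _ g0 _ h0⟩
        inv_mem' := fun {a} ha => by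
          obtain ⟨g, g0, gM, rfl⟩ := ha
          exact ⟨g⁻¹, inv_mem g0, inv_mem gM, N.θ_inv g0⟩ }
    have hK0 : K0.Normal := ⟨fun k hk y => by
      obtain ⟨g, g0, gM, rfl⟩ := hk
      obtain ⟨h, h0, rfl⟩ := N.θ_surj y
      exact ⟨h * g * h⁻¹, mul_mem (mul_mem h0 g0) (inv_mem h0), hMn.conj_mem g gM h, N.θ_conj h0 g0⟩⟩
    by_cases hA : ∀ h ∈ N.H0, h ∈ M → h ∈ N.A
    · exfalso
      have hMH : ∀ s ∈ N.H, s ∈ M → s ∈ N.A := by
        intro s hs hsM
        by_cases hs0 : s ∈ N.H0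
        · exact hA s hs0 hsM
        exfalso
        have hss : s * s ∈ N.A := hA _ (N.out_mul s hs hs0 s hs hs0) (mul_mem hsM hsM)
        obtain ⟨h, hh, hnot⟩ := N.outer_moves hs hs0 hss
        refine hnot (hA _ (mul_mem (N.conj_H0 s hs h hh) (inv_mem hh)) ?_)
        rw [show s * h * s⁻¹ * h⁻¹ = s * (h * s⁻¹ * h⁻¹) by group]
        exact mul_mem hsM (hMn.conj_mem _ (inv_mem hsM) h)
      haveI := hMn
      obtain ⟨P, hP⟩ : ∃ P : Sylow 2 ↥M, (P : Subgroup ↥M) = N.A.subgroupOf M := by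
        have hp : IsPGroup 2 ↥(N.A.subgroupOf M) := fun a =>
          ⟨1, Subtype.ext (Subtype.ext (by simpa [pow_two] using N.sq _ a.2))⟩
        obtain ⟨P, hP⟩ := hp.exists_le_sylow
        refine ⟨P, le_antisymm (fun p hp' => ?_) hP⟩
        obtain ⟨S', hS'⟩ := (P.isPGroup'.map M.subtype).exists_le_sylow
        -- move into `S`
        obtain ⟨g, hg⟩ := MulAction.exists_smul_eq X S' S
        have hin : ∀ q ∈ (P : Subgroup ↥M), g * (q : X) * g⁻¹ ∈ N.A := fun q hq => by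
          have hm : g * (q : X) * g⁻¹ ∈ (S : Subgroup X) := by
            rw [← hg]; exact ⟨q, hS' ⟨q, hq, rfl⟩, rfl⟩
          exact hMH _ (hSH hm) (hMn.conj_mem _ q.2 g)
        have hgH : g ∈ N.H := Φ.weakly fun a ha => N.A_leH (hin ⟨a, hAM ha⟩ (hP ha))
        show (p : X) ∈ N.A
        have h1 := N.conj_A (inv_mem hgH) (hin p hp')
        rwa [show g⁻¹ * (g * (p : X) * g⁻¹) * g⁻¹⁻¹ = p by group] at h1
      have hNC : Subgroup.normalizer ((P : Subgroup ↥M) : Set ↥M) ≤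
          Subgroup.centralizer ((P : Subgroup ↥M) : Set ↥M) := by
        rw [hP]
        intro n hn
        have hnH : (n : X) ∈ N.H := Φ.weakly fun a ha =>
          N.A_leH ((Subgroup.mem_normalizer_iff.1 hn ⟨a, hAM ha⟩).1 ha)
        exact Subgroup.mem_centralizer_iff.2 fun q hq =>
          Subtype.ext ((N.comm _ (hMH _ hnH n.2) _ hq).eq.symm)
      set R := (MonoidHom.transferSylow P hNC).ker with hR
      have hcompl := MonoidHom.ker_transferSylow_isComplement' P hNC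
      haveI hRn : R.Normal := MonoidHom.normal_ker _
      have hRO : R ≤ Cfsg.pPrimeCore 2 ↥M := Cores.le_pPrimeCore hRn
        (Nat.coprime_comm.1 (Nat.prime_two.coprime_iff_not_dvd.2 (MonoidHom.not_dvd_card_ker_transferSylow P hNC)))
      have hMO : (Cfsg.pPrimeCore 2 ↥M).map M.subtype ≤ Cfsg.pPrimeCore 2 X := by
        rw [Cores.pPrimeCore_map_subtype]; exact inf_le_left
      have hR1 : R = ⊥ := (Subgroup.eq_bot_iff_forall _).2 fun r hr => by
        have := hMO ⟨r, hRO hr, rfl⟩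
        rw [hO, Subgroup.mem_bot] at this
        exact Subtype.ext this
      have hPtop : (P : Subgroup ↥M) = ⊤ := by
        have := hcompl.sup_eq_top
        rwa [← hR, hR1, bot_sup_eq] at this
      refine hAnot ?_
      have e : M = N.A := le_antisymm (fun m hm => by
        have : (⟨m, hm⟩ : ↥M) ∈ (P : Subgroup ↥M) := hPtop ▸ Subgroup.mem_top _
        rw [hP] at this
        exact this) hAM
      exact e ▸ hMn
    · push Not at hA
      obtain ⟨h, hh, hhM, hhA⟩ := hA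
      have htop : K0 = ⊤ := normal_eq_top hK0 (x := N.θ h) ⟨h, hh, hhM, rfl⟩
        fun e => hhA ((N.θ_ker h hh).1 e)
      intro k hk
      obtain ⟨g, g0, gM, ge⟩ : N.θ k ∈ K0 := htop ▸ Subgroup.mem_top _
      rw [show k = k * g⁻¹ * g by group]
      exact mul_mem (hAM (N.div_mem hk g0 ge.symm)) gM
  -- `X = M H`
  have hfrat : ∀ g : X, ∃ m ∈ M, m * g ∈ N.H := by
    intro g
    haveI := hMn
    have hSM : ∀ T : Sylow 2 X, ∃ P : Sylow 2 ↥M, (P : Subgroup ↥M) = (T : Subgroup X).subgroupOf M := fun T =>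
      ⟨traceSylow M hMn T, Subgroup.ext fun x => mem_trace M hMn T⟩
    obtain ⟨Q, hQ⟩ := hSM S
    obtain ⟨Q', hQ'⟩ := hSM (g • S)
    obtain ⟨m, hm⟩ := MulAction.exists_smul_eq ↥M Q' Q
    refine ⟨m, m.2, Φ.weakly fun a ha => ?_⟩
    have h1 : (⟨g * a * g⁻¹, hMn.conj_mem a (hAM ha) g⟩ : ↥M) ∈ (Q' : Subgroup ↥M) := by
      rw [hQ']; exact ⟨a, hAS ha, rfl⟩
    have h2 : m * ⟨g * a * g⁻¹, hMn.conj_mem a (hAM ha) g⟩ * m⁻¹ ∈ (Q : Subgroup ↥M) := by
      rw [← hm]; exact ⟨_, h1, rfl⟩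
    rw [hQ] at h2
    refine hSH ?_
    rw [show (m : X) * g * a * ((m : X) * g)⁻¹ = (m : X) * (g * a * g⁻¹) * (m : X)⁻¹ by group]
    exact h2
  -- `M` is simple
  haveI := hMn
  haveI hsimple : IsSimpleGroup ↥M := by
    haveI : Nontrivial ↥M := (Subgroup.nontrivial_iff_ne_bot M).2 hM1
    refine ⟨fun L hL => ?_⟩
    haveI := hL
    set L' : Subgroup X := L.map M.subtype with hL'
    have hLM : L' ≤ M := Subgroup.map_subtype_le L
    have hLc : ∀ m ∈ M, ∀ l ∈ L', m * l * m⁻¹ ∈ L' := by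
      rintro m hm _ ⟨l, hl, rfl⟩
      exact ⟨⟨m, hm⟩ * l * ⟨m, hm⟩⁻¹, hL.conj_mem l hl _, rfl⟩
    rcases N.irred (L' ⊓ N.A) inf_le_right (fun h hh b hb =>
      ⟨hLc h (hH0M hh) b hb.1, N.conj_A (N.H0_le hh) hb.2⟩) with e | e
    · left
      have hodd : ¬ 2 ∣ Nat.card L' := by
        intro hd
        obtain ⟨l0, hl⟩ := exists_prime_orderOf_dvd_card' (G := L') 2 hd
        obtain ⟨l, hlL, hle⟩ := l0.2
        have hl2 : orderOf (l : X) = 2 := by
          rw [show (l : X) = (l0 : X) from hle, Subgroup.orderOf_coe, hl]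
        have hp : IsPGroup 2 (Subgroup.zpowers (l : ↥M)) :=
          IsPGroup.of_card (n := 1) (by rw [Nat.card_zpowers, ← Subgroup.orderOf_coe, hl2, pow_one])
        obtain ⟨Q', hQ'⟩ := hp.exists_le_sylow
        obtain ⟨m, hm⟩ := MulAction.exists_smul_eq ↥M Q' (traceSylow M hMn S)
        have hms : m * l * m⁻¹ ∈ ((traceSylow M hMn S : Sylow 2 ↥M) : Subgroup ↥M) := by
          rw [← hm]; exact ⟨l, hQ' (Subgroup.mem_zpowers _), rfl⟩
        set s : X := ((m * l * m⁻¹ : ↥M) : X) with hs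
        have hsS : s ∈ (S : Subgroup X) := (mem_trace M hMn S).1 hms
        have hsL : s ∈ L' := ⟨_, hL.conj_mem l hlL m, rfl⟩
        have hcen : ∀ a ∈ N.A, Commute s a := fun a ha => by
          have h1 : s * a * s⁻¹ * a⁻¹ ∈ L' ⊓ N.A := by
            refine ⟨?_, N.A.mul_mem (N.conj_A (hSH hsS) ha) (N.A.inv_mem ha)⟩
            rw [show s * a * s⁻¹ * a⁻¹ = s * (a * s⁻¹ * a⁻¹) by group]
            exact L'.mul_mem hsL (hLc a (hAM ha) _ (L'.inv_mem hsL))
          rw [e, Subgroup.mem_bot, mul_inv_eq_one] at h1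
          exact mul_inv_eq_iff_eq_mul.1 h1
        have hm2 : s ∈ L' ⊓ N.A := ⟨hsL, N.centralizer_A (hSH hsS) hcen⟩
        rw [e, Subgroup.mem_bot] at hm2
        have : (m : X) * (l : X) * (m : X)⁻¹ = 1 := hm2
        rw [conj_eq_one_iff] at this
        rw [this, orderOf_one] at hl2
        norm_num at hl2
      have h1 : L ≤ Cfsg.pPrimeCore 2 ↥M := Cores.le_pPrimeCore hL
        (Nat.coprime_comm.1 (Nat.prime_two.coprime_iff_not_dvd.2 (by
          rwa [hL', Subgroup.card_map_of_injective M.subtype_injective] at hodd)))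
      refine (Subgroup.eq_bot_iff_forall _).2 fun l hl => ?_
      have h2 : (l : X) ∈ (Cfsg.pPrimeCore 2 ↥M).map M.subtype := ⟨l, h1 hl, rfl⟩
      rw [Cores.pPrimeCore_map_subtype, hO, bot_inf_eq, Subgroup.mem_bot] at h2
      exact Subtype.ext h2
    · right
      set R : Subgroup X := Subgroup.closure {x | ∃ m ∈ M, ∃ a ∈ N.A, m * a * m⁻¹ = x} with hR
      have hRL : R ≤ L' := by
        rw [hR, Subgroup.closure_le]
        rintro _ ⟨m, hm, a, ha, rfl⟩
        exact hLc m hm a ((e ▸ inf_le_left : N.A ≤ L') ha)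
      have hRM : R ≤ M := hRL.trans hLM
      have hRn : R.Normal := by
        refine ⟨fun r hr g => ?_⟩
        have hle : R ≤ R.comap (MulAut.conj g).toMonoidHom := by
          conv_lhs => rw [hR]
          refine (Subgroup.closure_le _).2 ?_
          rintro _ ⟨m, hm, a, ha, rfl⟩
          obtain ⟨m', hm', hmg⟩ := hfrat g
          refine Subgroup.subset_closure ⟨g * m * g⁻¹ * m'⁻¹,
            mul_mem (hMn.conj_mem m hm g) (inv_mem hm'), m' * g * a * (m' * g)⁻¹, N.conj_A hmg ha, ?_⟩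
          show g * m * g⁻¹ * m'⁻¹ * (m' * g * a * (m' * g)⁻¹) * (g * m * g⁻¹ * m'⁻¹)⁻¹ = g * (m * a * m⁻¹) * g⁻¹
          group
        exact hle hr
      have hR1 : R ≠ ⊥ := fun h0 => N.A_ne (eq_bot_iff.2 fun a ha =>
        h0 ▸ (Subgroup.subset_closure ⟨1, one_mem _, a, ha, by group⟩ : a ∈ R))
      rcases hmin R hRn hRM with h0 | h0
      · exact absurd h0 hR1
      refine eq_top_iff.2 fun l _ => ?_
      obtain ⟨l', hl', hle⟩ := hRL (h0.symm ▸ l.2 : (l : X) ∈ R)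
      exact (Subtype.ext hle : l' = l) ▸ hl'
  -- Goldschmidt
  set SM : Sylow 2 ↥M := traceSylow M hMn S
  set AM : Subgroup ↥M := N.A.subgroupOf M with hAMdef
  have hA1 : AM ≠ ⊥ := fun h => N.A_ne (eq_bot_iff.2 fun a ha => by
    have h1 : (⟨a, hAM ha⟩ : ↥M) ∈ AM := ha
    rw [h, Subgroup.mem_bot] at h1
    exact Subgroup.mem_bot.2 (congrArg Subtype.val h1))
  have hAc : IsMulCommutative AM := ⟨⟨fun a b => Subtype.ext (Subtype.ext (N.comm _ a.2 _ b.2).eq)⟩⟩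
  have hsc : Cfsg.IsStronglyClosed AM (SM : Subgroup ↥M) :=
    ⟨fun a ha => (mem_trace M hMn S).2 (hAS ha), fun a ha g hg => hclosed _ ha (g : X) ((mem_trace M hMn S).1 hg)⟩
  -- elements of `H0` do not all lie in `A`
  have hH0A : ∃ h ∈ N.H0, h ∉ N.A ∧ h * h = 1 := by
    obtain ⟨Sc⟩ := N.exists_sec
    obtain ⟨m, hm, hθ, hc⟩ := Sc.exists_lift (k := t4 (w2 0 1 0)) (t_tor base_tbl.1)
    refine ⟨m, hm, fun h => ?_, Sc.lift_sq hm hc (by rw [hθ]; exact tv_sq cardK (iso_w2 0 1 0 (by decide)))⟩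
    rw [Sc.fix_eq_one h hc, N.θ_one] at hθ
    exact t4_ne hθ.symm
  haveI hrank : Cfsg.PRankAtLeast 2 2 ↥M := by
    refine ⟨AM, hAc, fun a ha => Subtype.ext (by rw [Subgroup.coe_pow, pow_two]; exact N.sq _ ha), ?_⟩
    rw [Nat.card_congr (Subgroup.subgroupOfEquivOfLe hAM).toEquiv]
    haveI : Nontrivial ↥N.A := (Subgroup.nontrivial_iff_ne_bot _).2 N.A_ne
    obtain ⟨p, hp, hpv⟩ := N.vec_surj ![1, 0, 0, 0]
    obtain ⟨q, hq, hqv⟩ := N.vec_surj ![0, 1, 0, 0]
    have hAp : IsPGroup 2 ↥N.A := fun a => ⟨1, Subtype.ext (by simpa [pow_two] using N.sq a a.2)⟩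
    obtain ⟨n, hn⟩ := IsPGroup.iff_card.1 hAp
    rw [hn]
    refine Nat.pow_le_pow_right (by norm_num) ?_
    by_contra hlt
    have h2 : Nat.card N.A ≤ 2 := by
      rw [hn]
      calc 2 ^ n ≤ 2 ^ 1 := Nat.pow_le_pow_right (by norm_num) (by omega)
        _ = 2 := rfl
    have key : ({1, ⟨p, hp⟩, ⟨q, hq⟩} : Finset ↥N.A).card = 3 := by
      have e1 : (⟨p, hp⟩ : ↥N.A) ≠ 1 := fun e => by
        rw [show p = 1 from congrArg Subtype.val e, N.vec_one] at hpv
        exact zero_ne_one (congrFun hpv 0)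
      have e2 : (⟨q, hq⟩ : ↥N.A) ≠ 1 := fun e => by
        rw [show q = 1 from congrArg Subtype.val e, N.vec_one] at hqv
        exact zero_ne_one (congrFun hqv 1)
      have e3 : (⟨p, hp⟩ : ↥N.A) ≠ ⟨q, hq⟩ := fun e => by
        rw [show p = q from congrArg Subtype.val e, hqv] at hpv
        exact zero_ne_one (congrFun hpv 0)
      rw [Finset.card_insert_of_notMem (by simp [e1.symm, e2.symm]), Finset.card_pair e3]
    have := Fintype.ofFinite ↥N.A
    have h3 := Finset.card_le_univ ({1, ⟨p, hp⟩, ⟨q, hq⟩} : Finset ↥N.A)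
    rw [key, ← Nat.card_eq_fintype_card] at h3
    omega
  rcases S1169.result SM AM hA1 hAc hsc with hcomm | ⟨W, hW⟩
  · obtain ⟨h, hh, hhA, hh2⟩ := hH0A
    -- the two-elements of `H ⊓ M` lie in `A`
    have hp : IsPGroup 2 ↥(Subgroup.zpowers h ⊔ N.A : Subgroup X) := by
      refine IsPGroup.to_sup_of_normal_right' ?_ ?_ ?_
      · refine IsPGroup.of_card (n := 1) ?_
        rw [Nat.card_zpowers, pow_one]
        exact orderOf_eq_prime (by rw [pow_two, hh2]) fun e => hhA (e ▸ one_mem _)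
      · exact fun a => ⟨1, Subtype.ext (by simpa [pow_two] using N.sq a a.2)⟩
      · rw [Subgroup.zpowers_le, ← N.H_eq]; exact N.H0_le hh
    obtain ⟨T, hT⟩ := hp.exists_le_sylow
    obtain ⟨m, hm⟩ := MulAction.exists_smul_eq ↥M (traceSylow M hMn T) SM
    have hconj : ∀ x ∈ (T : Subgroup X), ∀ hx : x ∈ M, m * ⟨x, hx⟩ * m⁻¹ ∈ (SM : Subgroup ↥M) := fun x hx hxM => by
      rw [← hm]; exact ⟨⟨x, hxM⟩, (mem_trace M hMn T).2 hx, rfl⟩
    have hcT : ∀ a ∈ N.A, Commute h a := fun a ha => by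
      have x1 := hconj h (hT (Subgroup.mem_sup_left (Subgroup.mem_zpowers h))) (hH0M hh)
      have x2 := hconj a (hT (Subgroup.mem_sup_right ha)) (hAM ha)
      have e := congrArg (fun z : (SM : Subgroup ↥M) => ((z : ↥M) : X)) (hcomm.1.1 ⟨_, x1⟩ ⟨_, x2⟩)
      have e' : (m : X) * h * (m : X)⁻¹ * ((m : X) * a * (m : X)⁻¹) =
          (m : X) * a * (m : X)⁻¹ * ((m : X) * h * (m : X)⁻¹) := e
      show h * a = a * h
      calc h * a = (m : X)⁻¹ * ((m : X) * h * (m : X)⁻¹ * ((m : X) * a * (m : X)⁻¹)) * m := by group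
        _ = _ := by rw [e']; group
    exact hhA (N.cent_A hh hcT)
  · haveI : Group.IsSolvable ↥W :=
      Bender.solvable_of_stronglyEmbedded Bender.rankOneHalf hW (Bender.twoInvolutions_of_rank hrank)
    obtain ⟨-, hWev, hWodd⟩ := hW
    -- a Sylow subgroup inside
    obtain ⟨g, hg⟩ : ∃ g : ↥M, ∀ a ∈ AM, g * a * g⁻¹ ∈ W := by
      obtain ⟨P, hP⟩ : ∃ P : Sylow 2 ↥M, (P : Subgroup ↥M) ≤ W :=
        StrongEmb.sylow_le hWev.two_dvd (fun g hg hd => by
          have := hWodd g hg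
          exact Nat.not_even_iff_odd.2 this (even_iff_two_dvd.2 hd))
      obtain ⟨g, hg⟩ := MulAction.exists_smul_eq ↥M SM P
      exact ⟨g, fun a ha => hP (by rw [← hg]; exact ⟨a, (mem_trace M hMn S).2 (hAS ha), rfl⟩)⟩
    set W' : Subgroup ↥M := W.comap (MulAut.conj g).toMonoidHom with hW'
    have hNW : ∀ n : ↥M, (n : X) ∈ N.H → n ∈ W' := by
      intro n hn
      by_contra hnW
      have hn' : g * n * g⁻¹ ∉ W := fun h => hnW h
      have hodd := hWodd _ hn'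
      obtain ⟨a, ha, ha1⟩ := (Subgroup.bot_or_exists_ne_one AM).resolve_left hA1
      set b := g * a * g⁻¹
      have hb : b ∈ W ⊓ W.map (MulAut.conj (g * n * g⁻¹)).toMonoidHom := by
        refine ⟨hg a ha, g * (n⁻¹ * a * n) * g⁻¹, hg _ ?_, ?_⟩
        · have := N.conj_A (inv_mem hn) ha
          rwa [inv_inv] at this
        · show g * n * g⁻¹ * (g * (n⁻¹ * a * n) * g⁻¹) * (g * n * g⁻¹)⁻¹ = g * a * g⁻¹
          group
      have hb2 : orderOf b = 2 := by
        show orderOf (g * a * g⁻¹) = 2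
        rw [orderOf_conj']
        exact orderOf_eq_prime (Subtype.ext (by rw [Subgroup.coe_pow, pow_two]; exact N.sq _ ha)) ha1
      have hd := Subgroup.orderOf_dvd_natCard _ hb
      rw [hb2] at hd
      exact Nat.not_even_iff_odd.2 hodd (even_iff_two_dvd.2 hd)
    have hsol : Group.IsSolvable ↥W' := by
      have he : W' ≤ W.map (MulAut.conj g⁻¹).toMonoidHom := fun x hx =>
        ⟨g * x * g⁻¹, hx, by simp [MulAut.conj_apply, mul_assoc]⟩
      haveI : Group.IsSolvable ↥(W.map (MulAut.conj g⁻¹).toMonoidHom) :=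
        solvable_of_surjective (f := (W.equivMapOfInjective _ (MulAut.conj g⁻¹).injective).toMonoidHom) (W.equivMapOfInjective _ (MulAut.conj g⁻¹).injective).surjective
      exact solvable_of_solvable_injective (Subgroup.inclusion_injective he)
    let π : ↥(W'.map M.subtype ⊓ N.H0 : Subgroup X) →* U4 :=
      MonoidHom.mk' (fun w => N.θ w) fun a b => N.θ_mul _ a.2.2 _ b.2.2
    have hπ : Function.Surjective π := fun k => by
      obtain ⟨h, hh, rfl⟩ := N.θ_surj k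
      exact ⟨⟨h, ⟨⟨h, hH0M hh⟩, hNW _ (N.H0_le hh), rfl⟩, hh⟩, rfl⟩
    haveI : Group.IsSolvable ↥(W'.map M.subtype) :=
      solvable_of_surjective (f := (W'.equivMapOfInjective _ M.subtype_injective).toMonoidHom) (W'.equivMapOfInjective _ M.subtype_injective).surjective
    haveI : Group.IsSolvable ↥(W'.map M.subtype ⊓ N.H0 : Subgroup X) :=
      solvable_of_solvable_injective (Subgroup.inclusion_injective inf_le_left)
    exact not_solvable_U4 (solvable_of_surjective hπ)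

end Nm

end Cfsg.Agent.U62ThreeCent
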